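import Groth.Agent.ConjInt.Global

/-!
Base change to an algebra of groups of multiplicative type, and of a conjugated homomorphism.
-/

universe u

open CategoryTheory Limits MonoidalCategory CartesianMonoidalCategory MonObj GrpObj AlgebraicGeometry
open CoactBr Groth.Agent.DiagGrp Groth.Agent.DiagAction

set_option backward.isDefEq.respectTransparency false

noncomputable section

namespace Groth.Agent.ConjInt

theorem bc_DS_grp {U U' : Scheme.{u}} (j : U' ⟶ U) (M : Type) [AddCommGroup M] :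
    Nonempty (Grp.mk (Red.bc j (Red.DS U M)) ≅ Grp.mk (Red.DS U' M)) := by
  obtain ⟨e1⟩ := bc_comp_grp j (Limits.IsTerminal.from specULiftZIsTerminal U) (Red.diag (ULift.{u} ℤ) M)
  obtain ⟨e2⟩ := bc_congr_grp (h := j ≫ Limits.IsTerminal.from specULiftZIsTerminal U)
    (h' := Limits.IsTerminal.from specULiftZIsTerminal U')
    (specULiftZIsTerminal.hom_ext _ _) (Red.diag (ULift.{u} ℤ) M)
  exact ⟨e1.symm ≪≫ e2⟩

theorem locally_bc {S T : Scheme.{u}} (t : T ⟶ S) [IsAffine T] [IsAffineHom t] (hS : IsAffineOpen (⊤ : S.Opens))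
    (H : Over S) [GrpObj H]
    (hH : TwC.Locally S TwC.Topology.fpqc (fun S' f => ∃ (M : Type) (_ : AddCommGroup M), Nonempty (Grp.mk (Red.bc f H) ≅ Grp.mk (Red.DS S' M)))) :
    TwC.Locally T TwC.Topology.fpqc (fun S' f => ∃ (M : Type) (_ : AddCommGroup M), Nonempty (Grp.mk (Red.bc f (Red.bc t H)) ≅ Grp.mk (Red.DS S' M))) := by
  obtain ⟨S', f, hflat, hsurj, hcov, hloc⟩ := hH
  haveI : Flat f := hflat
  haveI : Surjective f := hsurj
  refine ⟨pullback f t, pullback.snd f t, inferInstance, inferInstance, fun V hV => ?_, fun p => ?_⟩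
  · obtain ⟨W, hW, himg⟩ := hcov ⊤ hS
    let W' := pullback.fst f t ⁻¹ᵁ W
    have hW' : IsCompact (W' : Set ↑(pullback f t)) :=
      QuasiCompact.isCompact_preimage (f := pullback.fst f t) _ W.isOpen hW
    haveI : CompactSpace W' := isCompact_iff_compactSpace.mp hW'
    haveI : QuasiCompact (W'.ι ≫ pullback.snd f t) := inferInstance
    refine ⟨W' ⊓ pullback.snd f t ⁻¹ᵁ V, ?_, ?_⟩
    · have h1 := QuasiCompact.isCompact_preimage (f := W'.ι ≫ pullback.snd f t) _ V.isOpen hV.isCompact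
      have h2 := h1.image W'.ι.continuous
      convert h2 using 1
      ext x
      constructor
      · rintro ⟨h1, h2⟩; exact ⟨⟨x, h1⟩, h2, rfl⟩
      · rintro ⟨y, hy, rfl⟩; exact ⟨y.2, hy⟩
    · refine Set.Subset.antisymm ?_ fun y hy => ?_
      · rintro _ ⟨x, hx, rfl⟩; exact hx.2
      · obtain ⟨w, hw, hwy⟩ := himg.ge (Set.mem_univ (t y))
        obtain ⟨z, hz1, hz2⟩ := Scheme.Pullback.exists_preimage_pullback (f := f) (g := t) w y hwy
        refine ⟨z, ⟨?_, ?_⟩, hz2⟩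
        · show pullback.fst f t z ∈ W
          rw [hz1]; exact hw
        · show pullback.snd f t z ∈ V
          rw [hz2]; exact hy
  · obtain ⟨U, hpU, M, _, ⟨E⟩⟩ := hloc (pullback.fst f t p)
    let U' := pullback.fst f t ⁻¹ᵁ U
    let j : (U' : Scheme.{u}) ⟶ U := IsOpenImmersion.lift U.ι (U'.ι ≫ pullback.fst f t) (by
      rintro _ ⟨y, rfl⟩; exact (Scheme.Opens.range_ι U).ge y.2)
    obtain ⟨e1⟩ := bc_comp_grp (U'.ι ≫ pullback.snd f t) t H
    obtain ⟨e2⟩ := bc_congr_grp (h := (U'.ι ≫ pullback.snd f t) ≫ t) (h' := j ≫ U.ι ≫ f)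
      (by rw [IsOpenImmersion.lift_fac_assoc, Category.assoc, Category.assoc, pullback.condition]) H
    obtain ⟨e3⟩ := bc_comp_grp j (U.ι ≫ f) H
    obtain ⟨e4⟩ := bc_DS_grp j M
    exact ⟨U', hpU, M, inferInstance, ⟨e1.symm ≪≫ e2 ≪≫ e3 ≪≫ (Over.pullback j).mapGrp.mapIso E ≪≫ e4⟩⟩

variable {S : Scheme.{u}} {H G : Over S} [GrpObj H] [GrpObj G]

/-- the homomorphism `u` conjugated by a section -/
theorem isMonHom_conj (u : H ⟶ G) [IsMonHom u] (y : 𝟙_ (Over S) ⟶ G) :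
    IsMonHom ((toUnit H ≫ y) * u * (toUnit H ≫ y)⁻¹) := by
  have hp : ∀ (X : Over S) (a : X ⟶ H), a ≫ ((toUnit H ≫ y) * u * (toUnit H ≫ y)⁻¹) =
      (toUnit X ≫ y) * (a ≫ u) * (toUnit X ≫ y)⁻¹ := fun X a => by
    simp only [MonObj.comp_mul, GrpObj.comp_inv, ← Category.assoc, toUnit_unique (a ≫ toUnit H) (toUnit X)]
  refine ⟨?_, ?_⟩
  · rw [hp]
    simp [IsMonHom.one_hom, ← Hom.one_def, toUnit_unique (toUnit (𝟙_ (Over S))) (𝟙 _)]
    rw [show (η[G] : 𝟙_ (Over S) ⟶ G) = 1 by rw [Hom.one_def, toUnit_unique (toUnit _) (𝟙 _), Category.id_comp]]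
    group
  · have e : ∀ (X : Over S) (a b : X ⟶ H), (a * b) ≫ ((toUnit H ≫ y) * u * (toUnit H ≫ y)⁻¹) =
        (a ≫ ((toUnit H ≫ y) * u * (toUnit H ≫ y)⁻¹)) * (b ≫ ((toUnit H ≫ y) * u * (toUnit H ≫ y)⁻¹)) := by
      intro X a b
      rw [hp, hp, hp, mul_comp']
      group
    have := e (H ⊗ H) (fst H H) (snd H H)
    rw [Hom.mul_def, lift_fst_snd, Category.id_comp] at this
    rw [this, Hom.mul_def, lift_fst_comp_snd_comp]

theorem comp_conj (u : H ⟶ G) (y : 𝟙_ (Over S) ⟶ G) {X : Over S} (a : X ⟶ H) :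
    a ≫ ((toUnit H ≫ y) * u * (toUnit H ≫ y)⁻¹) = (toUnit X ≫ y) * (a ≫ u) * (toUnit X ≫ y)⁻¹ := by
  simp only [MonObj.comp_mul, GrpObj.comp_inv, ← Category.assoc, toUnit_unique (a ≫ toUnit H) (toUnit X)]

/-- points with values in affine schemes detect morphisms -/
theorem affine_point_ext {R : Type u} [CommRing R] {Z X : Over (Spec (CommRingCat.of R))} (p q : Z ⟶ X)
    (h : ∀ (D : Type u) [CommRing D] [Algebra R D] (z : sp R D ⟶ Z), z ≫ p = z ≫ q) : p = q := by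
  apply Over.OverMorphism.ext
  refine hom_ext_local _ _ fun y => ?_
  obtain ⟨D, _, _, k, hk, hyk, -, hks⟩ := exists_local (R := R) Z.hom ⊤ y trivial
  let z : sp R D ⟶ Z := Over.homMk k hks
  exact ⟨_, k, hk, hyk, congrArg CommaMorphism.left (h D z)⟩

end Groth.Agent.ConjInt
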