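import Groth.Agent.ConjInt.Local

/-!
The integral of the cocycle conjugates the two homomorphisms, is stable under base change and does not depend on the
chart.
-/

universe u

open CategoryTheory Limits MonoidalCategory CartesianMonoidalCategory MonObj GrpObj AlgebraicGeometry
open CoactBr Groth.Agent.DiagGrp Groth.Agent.DiagAction

set_option backward.isDefEq.respectTransparency false

noncomputable section

namespace Groth.Agent.ConjInt

variable {R : Type u} [CommRing R] {H G : Over (Spec (CommRingCat.of R))} [GrpObj H] [GrpObj G] {J : Ideal R}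
variable {A : Type u} [CommRing A] [Algebra R A] {M : Type} [CommGroup M] {u v : H ⟶ G} {hJ : J ^ 2 = ⊥}

section Functorial

variable (J) {B : Type u} [CommRing B] [Algebra R B] {A' B' : Type u} [CommRing A'] [CommRing B'] [Algebra R A']
  [Algebra R B'] [Algebra A A'] [Algebra B B'] [IsScalarTower R A A'] [IsScalarTower R B B']

/-- the map induced on `A + J A'` -/
def thickMap (f : A' →ₐ[R] B') (hf : ∀ a : A, ∃ b : B, f (algebraMap A A' a) = algebraMap B B' b) :
    thick A (J.map (algebraMap R A')) →ₐ[R] thick B (J.map (algebraMap R B')) :=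
  (f.comp ((thick A (J.map (algebraMap R A'))).val.restrictScalars R)).codRestrict
    ((thick B (J.map (algebraMap R B'))).restrictScalars R) (fun z => by
      obtain ⟨z, a, ha⟩ := z
      obtain ⟨b, hb⟩ := hf a
      refine (mem_thick _ _).mpr ⟨b, ?_⟩
      have h1 := Ideal.mem_map_of_mem f.toRingHom ha
      rw [Ideal.map_map, show f.toRingHom.comp (algebraMap R A') = algebraMap R B' from f.comp_algebraMap] at h1
      rw [← hb]
      exact (map_sub f _ _).symm ▸ h1)

theorem thickMap_coe (f : A' →ₐ[R] B') (hf : ∀ a : A, ∃ b : B, f (algebraMap A A' a) = algebraMap B B' b)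
    (z : thick A (J.map (algebraMap R A'))) : (thickMap J f hf z : B') = f z := rfl

theorem val_thickMap (f : A' →ₐ[R] B') (hf : ∀ a : A, ∃ b : B, f (algebraMap A A' a) = algebraMap B B' b) :
    ptR R (thick B (J.map (algebraMap R B'))).val ≫ pt (thickMap J f hf) =
      pt f ≫ ptR R (thick A (J.map (algebraMap R A'))).val := by
  rw [ptR, ptR, ← pt_comp, ← pt_comp]
  rfl

variable (A A') in
/-- `A → A + J A'` -/
def baseC : A →ₐ[R] thick A (J.map (algebraMap R A')) :=
  (Algebra.ofId A (thick A (J.map (algebraMap R A')))).restrictScalars R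

variable (A A') in
/-- `Spec (A + J A') → Spec A` -/
def baseP : sp R (thick A (J.map (algebraMap R A'))) ⟶ sp R A := pt (baseC J A A')

variable (A A') in
theorem val_baseC : ptR R (thick A (J.map (algebraMap R A'))).val ≫ baseP J A A' =
    pt (IsScalarTower.toAlgHom R A A') := by
  rw [baseP, ptR, ← pt_comp]
  rfl

end Functorial

theorem int_baseC (hJ : J ^ 2 = ⊥) :
    ptR R (intC A M hJ) ≫ baseP J A (MonoidAlgebra A M) = 𝟙 (sp R A) := by
  rw [baseP, ptR, ← pt_comp, ← pt_id]
  exact congrArg pt (AlgHom.ext fun y => (intC A M hJ).commutes y)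

theorem int_thickMap {B : Type u} [CommRing B] [Algebra R B] {N : Type} [CommGroup N] (hJ : J ^ 2 = ⊥)
    (f₀ : A →ₐ[R] B) (f : MonoidAlgebra A M →ₐ[R] MonoidAlgebra B N)
    (hf : ∀ a : A, ∃ b : B, f (algebraMap A (MonoidAlgebra A M) a) = algebraMap B (MonoidAlgebra B N) b)
    (hf₀ : ∀ a : A, f (algebraMap A (MonoidAlgebra A M) a) = algebraMap B (MonoidAlgebra B N) (f₀ a))
    (h1 : ∀ m, (f (MonoidAlgebra.single m 1)).coeff 1 = f₀ ((MonoidAlgebra.single m (1 : A)).coeff 1)) :
    ptR R (intC B N hJ) ≫ pt (thickMap J f hf) = pt f₀ ≫ ptR R (intC A M hJ) := by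
  rw [ptR, ptR, ← pt_comp, ← pt_comp]
  refine congrArg pt (AlgHom.ext fun z => ?_)
  show (f (z : MonoidAlgebra A M)).coeff 1 = f₀ ((z : MonoidAlgebra A M).coeff 1)
  generalize (z : MonoidAlgebra A M) = w
  induction w using MonoidAlgebra.induction_linear with
  | zero => simp
  | add p q hp hq => simp only [map_add, MonoidAlgebra.coeff_add, Finsupp.add_apply, hp, hq]
  | single m r =>
    rw [show MonoidAlgebra.single m r = algebraMap A (MonoidAlgebra A M) r * MonoidAlgebra.single m (1 : A) by simp,
      map_mul, hf₀, ← Algebra.smul_def, ← Algebra.smul_def]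
    simp only [MonoidAlgebra.coeff_smul, Finsupp.smul_apply, smul_eq_mul, map_mul, h1]

variable [IsMonHom u] [IsMonHom v]

theorem IsInt.conj_univ {c : Chart H A M} {a : sp R A ⟶ G} (ha : IsInt J u v hJ c a) :
    c.χ ≫ v = (pt (IsScalarTower.toAlgHom R A (MonoidAlgebra A M)) ≫ a) * (c.χ ≫ u) *
      (pt (IsScalarTower.toAlgHom R A (MonoidAlgebra A M)) ≫ a)⁻¹ := by
  obtain ⟨g, hg, rfl⟩ := ha
  let x1 : MonoidAlgebra A M →ₐ[A] MonoidAlgebra (MonoidAlgebra A M) M :=
    IsScalarTower.toAlgHom A (MonoidAlgebra A M) (MonoidAlgebra (MonoidAlgebra A M) M)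
  let x2 : MonoidAlgebra A M →ₐ[A] MonoidAlgebra (MonoidAlgebra A M) M :=
    MonoidAlgebra.lift A _ M (MonoidAlgebra.of (MonoidAlgebra A M) M)
  let x12 := conv x1 x2
  have hf₀ : ∀ (f : MonoidAlgebra A M →ₐ[A] MonoidAlgebra (MonoidAlgebra A M) M) (r : A),
      f.restrictScalars R (algebraMap A (MonoidAlgebra A M) r) = algebraMap (MonoidAlgebra A M)
        (MonoidAlgebra (MonoidAlgebra A M) M) (IsScalarTower.toAlgHom R A (MonoidAlgebra A M) r) := fun f r => by
    show f (algebraMap A (MonoidAlgebra A M) r) = _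
    rw [f.commutes, IsScalarTower.algebraMap_apply A (MonoidAlgebra A M) (MonoidAlgebra (MonoidAlgebra A M) M)]
    rfl
  let res := fun f : MonoidAlgebra A M →ₐ[A] MonoidAlgebra (MonoidAlgebra A M) M =>
    thickMap J (f.restrictScalars R) fun r => ⟨_, hf₀ f r⟩
  let C' : Subalgebra (MonoidAlgebra A M) (MonoidAlgebra (MonoidAlgebra A M) M) := Cs J (MonoidAlgebra A M) M
  let b := baseP J (MonoidAlgebra A M) (MonoidAlgebra (MonoidAlgebra A M) M)
  have hr : ∀ f, ptR R C'.val ≫ pt (res f) ≫ g = ptR R f ≫ c.d u v := fun f => by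
    simp only [res, C']
    rw [← Category.assoc, val_thickMap, Category.assoc, hg]
  have hval : ∀ {X : Over (Spec (CommRingCat.of R))} (t : sp R (MonoidAlgebra A M) ⟶ X),
      ptR R C'.val ≫ b ≫ t = ptR R x1 ≫ t := fun t => by
    simp only [C', b]
    rw [← Category.assoc, val_baseC]
    rfl
  have heq : pt (res x12) ≫ g = (b ≫ c.d u v) * (b ≫ c.χ ≫ u) * (pt (res x2) ≫ g) * (b ≫ c.χ ≫ u)⁻¹ := by
    refine cancel_val (JP J (MonoidAlgebra A M) M) (aug (MonoidAlgebra A M) M) (sq_map J hJ) ?_
    simp only [MonObj.comp_mul, GrpObj.comp_inv]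
    erw [hr x12, hr x2, hval, hval]
    simp only [Chart.d, MonObj.comp_mul, GrpObj.comp_inv, ← Category.assoc, x12, c.mul, mul_comp']
    group
  let a' := pt (IsScalarTower.toAlgHom R A (MonoidAlgebra A M)) ≫ ptR R (intC A M hJ) ≫ g
  have h2 : ∀ m, (x2 (MonoidAlgebra.single m 1)).coeff 1 = IsScalarTower.toAlgHom R A (MonoidAlgebra A M)
      ((MonoidAlgebra.single m (1 : A)).coeff 1) := by
    intro m
    by_cases h : m = 1
    · subst h; simp [x2, MonoidAlgebra.one_def]
    · simp [x2, MonoidAlgebra.of_apply, MonoidAlgebra.coeff_single, Finsupp.single_eq_of_ne' h, h]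
  have h12 : ∀ m, (x12 (MonoidAlgebra.single m 1)).coeff 1 = IsScalarTower.toAlgHom R A (MonoidAlgebra A M)
      ((MonoidAlgebra.single m (1 : A)).coeff 1) := by
    intro m
    by_cases h : m = 1
    · subst h; simp [x12, x1, x2, MonoidAlgebra.one_def]
    · simp [x12, x1, x2, MonoidAlgebra.of_apply, MonoidAlgebra.coeff_single, Finsupp.single_eq_of_ne' h, h]
  let I := ptR R (intC (MonoidAlgebra A M) M hJ)
  have key := congrArg (fun t => I ≫ t) heq
  simp only [MonObj.comp_mul, GrpObj.comp_inv, I, res, b] at key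
  rw [← Category.assoc, int_thickMap hJ _ (x12.restrictScalars R) _ (hf₀ x12) h12, ← Category.assoc (ptR R _) (pt (thickMap J (x2.restrictScalars R) _)),
    int_thickMap hJ _ (x2.restrictScalars R) _ (hf₀ x2) h2] at key
  simp only [← Category.assoc (ptR R (intC (MonoidAlgebra A M) M hJ)), int_baseC, Category.id_comp] at key
  rw [Category.assoc] at key
  show c.χ ≫ v = a' * (c.χ ≫ u) * a'⁻¹
  conv_rhs => arg 1; arg 1; rw [show a' = _ from key]
  simp only [a', Chart.d]
  group

theorem IsInt.conj {c : Chart H A M} {a : sp R A ⟶ G} (ha : IsInt J u v hJ c a) (B : Type u) [CommRing B]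
    [Algebra R B] (f : A →ₐ[R] B) (h : sp R B ⟶ H) :
    h ≫ v = (pt f ≫ a) * (h ≫ u) * (pt f ≫ a)⁻¹ := by
  letI : Algebra A B := f.toRingHom.toAlgebra
  haveI : IsScalarTower R A B := IsScalarTower.of_algebraMap_eq fun r => (f.commutes r).symm
  obtain ⟨x, rfl⟩ := c.surj B h
  have hx : ptR R x ≫ pt (IsScalarTower.toAlgHom R A (MonoidAlgebra A M)) = pt f := by
    simp only [ptR, ← pt_comp]
    congr 1
    exact AlgHom.ext fun r => x.commutes r
  rw [Category.assoc, ha.conj_univ, MonObj.comp_mul, MonObj.comp_mul, GrpObj.comp_inv, ← Category.assoc,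
    ← Category.assoc, hx, Category.assoc]

/-- base change of a chart -/
def Chart.map (c : Chart H A M) {D : Type u} [CommRing D] [Algebra R D] [Algebra A D] [IsScalarTower R A D] :
    Chart H D M where
  χ := pt ((incl A D M).restrictScalars R) ≫ c.χ
  surj B _ _ _ _ h := by
    letI : Algebra A B := Algebra.compHom B (algebraMap A D)
    haveI : IsScalarTower A D B := IsScalarTower.of_algebraMap_eq fun _ => rfl
    haveI : IsScalarTower R A B := IsScalarTower.of_algebraMap_eq fun r => by
      rw [IsScalarTower.algebraMap_apply R D B, IsScalarTower.algebraMap_apply R A D]; rfl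
    obtain ⟨x, rfl⟩ := c.surj B h
    refine ⟨MonoidAlgebra.lift D B M (x.toMonoidHom.comp (MonoidAlgebra.of A M)), ?_⟩
    rw [← Category.assoc, ptR, ← pt_comp]
    congr 2
    refine AlgHom.ext fun z => ?_
    show ((MonoidAlgebra.lift D B M (x.toMonoidHom.comp (MonoidAlgebra.of A M))).restrictScalars A).comp (incl A D M) z = x z
    congr 1
    exact algHom_ext_single fun m => by simp
  inj B _ _ _ _ x y e := by
    letI : Algebra A B := Algebra.compHom B (algebraMap A D)
    haveI : IsScalarTower A D B := IsScalarTower.of_algebraMap_eq fun _ => rfl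
    haveI : IsScalarTower R A B := IsScalarTower.of_algebraMap_eq fun r => by
      rw [IsScalarTower.algebraMap_apply R D B, IsScalarTower.algebraMap_apply R A D]; rfl
    simp only [ptR, ← Category.assoc, ← pt_comp] at e
    have := c.inj B ((x.restrictScalars A).comp (incl A D M)) ((y.restrictScalars A).comp (incl A D M)) e
    exact algHom_ext_single fun m => by simpa using DFunLike.congr_fun this (MonoidAlgebra.single m 1)
  mul B _ _ _ _ x y := by
    letI : Algebra A B := Algebra.compHom B (algebraMap A D)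
    haveI : IsScalarTower A D B := IsScalarTower.of_algebraMap_eq fun _ => rfl
    haveI : IsScalarTower R A B := IsScalarTower.of_algebraMap_eq fun r => by
      rw [IsScalarTower.algebraMap_apply R D B, IsScalarTower.algebraMap_apply R A D]; rfl
    simp only [ptR, ← Category.assoc, ← pt_comp]
    have := c.mul B ((x.restrictScalars A).comp (incl A D M)) ((y.restrictScalars A).comp (incl A D M))
    rw [show conv ((x.restrictScalars A).comp (incl A D M)) ((y.restrictScalars A).comp (incl A D M)) =
      ((conv x y).restrictScalars A).comp (incl A D M) from algHom_ext_single fun m => by simp] at this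
    exact this

theorem IsInt.map {c : Chart H A M} {a : sp R A ⟶ G} (ha : IsInt J u v hJ c a) {D : Type u} [CommRing D]
    [Algebra R D] [Algebra A D] [IsScalarTower R A D] :
    IsInt J u v hJ (c.map (D := D)) (pt (IsScalarTower.toAlgHom R A D) ≫ a) := by
  obtain ⟨g, hg, rfl⟩ := ha
  have hf₀ : ∀ r : A, (incl A D M).restrictScalars R (algebraMap A (MonoidAlgebra A M) r) =
      algebraMap D (MonoidAlgebra D M) (IsScalarTower.toAlgHom R A D r) := fun r => by
    show incl A D M (algebraMap A (MonoidAlgebra A M) r) = _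
    rw [(incl A D M).commutes, IsScalarTower.algebraMap_apply A D (MonoidAlgebra D M)]
    rfl
  refine ⟨pt (thickMap J ((incl A D M).restrictScalars R) fun r => ⟨_, hf₀ r⟩) ≫ g, ?_, ?_⟩
  · rw [← Category.assoc, val_thickMap, Category.assoc, hg]
    simp only [Chart.d, Chart.map, MonObj.comp_mul, GrpObj.comp_inv, Category.assoc]
  · rw [← Category.assoc (ptR R (intC D M hJ)), int_thickMap hJ _ _ _ hf₀, Category.assoc]
    intro m
    by_cases h : m = 1 <;> simp [MonoidAlgebra.coeff_single, Finsupp.single_apply, h]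

/-- change of chart -/
theorem exists_change {N : Type} [CommGroup N] (c : Chart H A M) (c' : Chart H A N) :
    ∃ x : MonoidAlgebra A M →ₐ[A] MonoidAlgebra A N, ptR R x ≫ c.χ = c'.χ ∧
      ∀ m : M, (x (MonoidAlgebra.single m 1)).coeff 1 = (MonoidAlgebra.single m (1 : A)).coeff 1 := by
  classical
  obtain ⟨x, hx⟩ := c.surj (MonoidAlgebra A N) c'.χ
  obtain ⟨y, hy⟩ := c'.surj (MonoidAlgebra A M) c.χ
  have hyx : y.comp x = AlgHom.id A _ := c.inj _ _ _ (by
    rw [ptR_comp, Category.assoc, hx, hy]
    exact ((congrArg (· ≫ c.χ) (pt_id (R := R) (B := MonoidAlgebra A M))).trans (Category.id_comp _)).symm)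
  have hcn : conv (il A N) (ir A N) = dg A N := algHom_ext_single fun m => by simp [il, ir, dg]
  have hx' : conv ((il A N).comp x) ((ir A N).comp x) = (conv (il A N) (ir A N)).comp x := c.inj _ _ _ (by
    rw [c.mul, ptR_comp, ptR_comp, ptR_comp, Category.assoc, Category.assoc, Category.assoc, hx, c'.mul])
  have hc0 : ∀ m : M, (x (MonoidAlgebra.single m 1)).coeff 1 = (MonoidAlgebra.single m (1 : A)).coeff 1 := by
    intro m
    by_cases hm : m = 1
    · subst hm
      rw [← MonoidAlgebra.one_def, map_one x]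
      simp [MonoidAlgebra.one_def, MonoidAlgebra.coeff_single]
    set z := x (MonoidAlgebra.single m 1) with hz
    have hzz : il A N z * ir A N z = dg A N z := by
      have h := DFunLike.congr_fun hx' (MonoidAlgebra.single m 1)
      rw [conv_single, hcn] at h
      exact h
    have horth : ∀ p q : N, z.coeff p * z.coeff q = if p = q then z.coeff p else 0 := fun p q => by
      rw [← il_mul_ir_coeff, hzz, dg_coeff]
    have hcz : (z.coeff 1) • z = (z.coeff 1) • (1 : MonoidAlgebra A N) := by
      refine MonoidAlgebra.ext (Finsupp.ext fun p => ?_)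
      simp only [MonoidAlgebra.coeff_smul, Finsupp.smul_apply, smul_eq_mul, MonoidAlgebra.one_def,
        MonoidAlgebra.coeff_single, Finsupp.single_apply, horth]
      split_ifs with h <;> simp [h]
    have h2 := congrArg y hcz
    rw [map_smul y, map_smul y, map_one y, hz, show y (x (MonoidAlgebra.single m 1)) = MonoidAlgebra.single m 1 from
      DFunLike.congr_fun hyx _] at h2
    have h3 := congrArg (fun w => w.coeff m) h2
    simp [MonoidAlgebra.one_def, MonoidAlgebra.coeff_single, Finsupp.single_apply, hm, Ne.symm hm] at h3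
    rw [show z.coeff 1 = 0 from h3]
    simp [MonoidAlgebra.coeff_single, Finsupp.single_eq_of_ne' hm]
  exact ⟨x, hx, hc0⟩

theorem IsInt.chart_eq {N : Type} [CommGroup N] {c : Chart H A M} {c' : Chart H A N} {a b : sp R A ⟶ G}
    (ha : IsInt J u v hJ c a) (hb : IsInt J u v hJ c' b) : a = b := by
  obtain ⟨x, hx, hc0⟩ := exists_change c c'
  obtain ⟨g, hg, rfl⟩ := ha
  obtain ⟨g', hg', rfl⟩ := hb
  have hf₀ : ∀ r : A, x.restrictScalars R (algebraMap A (MonoidAlgebra A M) r) =
      algebraMap A (MonoidAlgebra A N) (AlgHom.id R A r) := fun r => x.commutes r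
  have hk : g' = pt (thickMap J (x.restrictScalars R) fun r => ⟨_, hf₀ r⟩) ≫ g := by
    refine cancel_val (JP J A N) (aug A N) (sq_map J hJ) (hg'.trans ?_)
    rw [← Category.assoc, val_thickMap, Category.assoc, hg, Chart.d, Chart.d, MonObj.comp_mul, GrpObj.comp_inv,
      ← Category.assoc, ← Category.assoc, show pt (x.restrictScalars R) ≫ c.χ = c'.χ from hx]
  rw [hk, ← Category.assoc (ptR R (intC A N hJ)), int_thickMap hJ _ _ _ hf₀ hc0, pt_id, Category.id_comp]

end Groth.Agent.ConjInt
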