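import Groth.Agent.ConjInt.Conj
import Groth.Agent.DiagAction.Global

/-!
Two homomorphisms from a group of multiplicative type which agree modulo a square-zero ideal are conjugate by a point
which is trivial modulo this ideal.
-/

universe u

open CategoryTheory Limits MonoidalCategory CartesianMonoidalCategory MonObj GrpObj AlgebraicGeometry
open CoactBr Groth.Agent.DiagGrp Groth.Agent.DiagAction

set_option backward.isDefEq.respectTransparency false

noncomputable section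

namespace Groth.Agent.ConjInt

variable {R : Type u} [CommRing R] {H G : Over (Spec (CommRingCat.of R))} [GrpObj H] [GrpObj G] {J : Ideal R}

theorem exists_chart (A : Type u) [CommRing A] [Algebra R A] {M : Type} [CommGroup M]
    (he : Nonempty (Grp.mk (Red.bc (str R A) H) ≅ Grp.mk (sp A (MonoidAlgebra A M)))) : Nonempty (Chart H A M) := by
  obtain ⟨E⟩ := he
  let e : sp A (MonoidAlgebra A M) ⟶ Red.bc (str R A) H := E.inv.hom.hom
  haveI : IsMonHom e := E.inv.hom.isMonHom_hom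
  haveI : IsIso e := ((Grp.forget _).mapIso E).isIso_inv
  refine ⟨⟨down e, fun B _ _ _ _ h => ?_, fun B _ _ _ _ x y hxy => ?_, fun B _ _ _ _ x y => ?_⟩⟩
  · obtain ⟨x, hx⟩ := pt_surjective (up (K := A) h ≫ inv e)
    refine ⟨x, ?_⟩
    rw [← DiagGrp.down_comp, hx, Category.assoc, IsIso.inv_hom_id, Category.comp_id, down_up]
  · rw [← DiagGrp.down_comp, ← DiagGrp.down_comp] at hxy
    exact pt_injective ((cancel_mono e).mp (down_injective hxy))
  · rw [← DiagGrp.down_comp, ← DiagGrp.down_comp, ← DiagGrp.down_comp, pt_conv, mul_comp', down_mul]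

theorem one_left (B : Type u) [CommRing B] [Algebra R B] :
    (1 : sp R B ⟶ G).left = Spec.map (CommRingCat.ofHom (algebraMap R B)) ≫ (η[G] : 𝟙_ _ ⟶ G).left := by
  rw [Hom.one_def, Over.comp_left]
  congr 1

theorem isInt_compat {u v : H ⟶ G} [IsMonHom u] [IsMonHom v] {hJ : J ^ 2 = ⊥} {A A' : Type u} [CommRing A]
    [CommRing A'] [Algebra R A] [Algebra R A'] {M M' : Type} [CommGroup M] [CommGroup M'] {c : Chart H A M}
    {c' : Chart H A' M'} {a : sp R A ⟶ G} {a' : sp R A' ⟶ G} (ha : IsInt J u v hJ c a) (ha' : IsInt J u v hJ c' a')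
    (D : Type u) [CommRing D] [Algebra R D] (f : A →ₐ[R] D) (f' : A' →ₐ[R] D) : pt f ≫ a = pt f' ≫ a' := by
  letI : Algebra A D := f.toRingHom.toAlgebra
  letI : Algebra A' D := f'.toRingHom.toAlgebra
  haveI : IsScalarTower R A D := IsScalarTower.of_algebraMap_eq fun r => (f.commutes r).symm
  haveI : IsScalarTower R A' D := IsScalarTower.of_algebraMap_eq fun r => (f'.commutes r).symm
  exact (ha.map (D := D)).chart_eq (ha'.map (D := D))

theorem exists_local {Z : Scheme.{u}} (s : Z ⟶ Spec (CommRingCat.of R)) (U : Z.Opens) (z : Z) (hz : z ∈ U) :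
    ∃ (D : Type u) (_ : CommRing D) (_ : Algebra R D) (k : Spec (CommRingCat.of D) ⟶ Z), IsOpenImmersion k ∧
      z ∈ Set.range k ∧ Set.range k ⊆ U ∧ k ≫ s = Spec.map (CommRingCat.ofHom (algebraMap R D)) := by
  obtain ⟨_, ⟨O, hO, rfl⟩, hzO, hOU⟩ := Z.isBasis_affineOpens.exists_subset_of_mem_open
    (show z ∈ (U : Set Z) from hz) U.isOpen
  replace hO : IsAffineOpen O := hO
  let ψ : CommRingCat.of R ⟶ Γ(Z, O) := Spec.preimage (hO.fromSpec ≫ s)
  exact ⟨Γ(Z, O), inferInstance, ψ.hom.toAlgebra, hO.fromSpec, inferInstance, hO.range_fromSpec.ge hzO,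
    hO.range_fromSpec.le.trans hOU, (Spec.map_preimage _).symm⟩

theorem hom_ext_local {Z X : Scheme.{u}} (g h : Z ⟶ X)
    (H' : ∀ z : Z, ∃ (Y : Scheme.{u}) (k : Y ⟶ Z), IsOpenImmersion k ∧ z ∈ Set.range k ∧ k ≫ g = k ≫ h) : g = h := by
  choose Y k hk hzk e using H'
  haveI := hk
  refine (Z.openCoverOfIsOpenCover (fun z => (k z).opensRange) (eq_top_iff.mpr fun z _ =>
    TopologicalSpace.Opens.mem_iSup.mpr ⟨z, hzk z⟩)).hom_ext _ _ fun z => ?_
  rw [← cancel_epi (k z).isoOpensRange.hom]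
  simpa using e z

theorem exists_algHom {A D : Type u} [CommRing A] [CommRing D] [Algebra R A] [Algebra R D]
    (l : Spec (CommRingCat.of D) ⟶ Spec (CommRingCat.of A))
    (hl : l ≫ Spec.map (CommRingCat.ofHom (algebraMap R A)) = Spec.map (CommRingCat.ofHom (algebraMap R D))) :
    ∃ f : A →ₐ[R] D, l = (pt f).left := by
  refine ⟨{ (Spec.preimage l).hom with commutes' := fun r => ?_ }, ?_⟩
  · have e : CommRingCat.ofHom (algebraMap R A) ≫ Spec.preimage l = CommRingCat.ofHom (algebraMap R D) :=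
      Spec.map_injective (by rw [Spec.map_comp, Spec.map_preimage, hl])
    exact congrArg (fun t => t.hom r) e
  · rw [pt_left]
    exact (Spec.map_preimage l).symm

variable {n : Type u} (A : n → Type u) [∀ i, CommRing (A i)] [∀ i, Algebra R (A i)]

/-- the covering morphism -/
abbrev covπ : (∐ fun i => Spec (CommRingCat.of (A i))) ⟶ Spec (CommRingCat.of R) :=
  Sigma.desc fun i => Spec.map (CommRingCat.ofHom (algebraMap R (A i)))

theorem exists_component {W : Scheme.{u}} (g : W ⟶ ∐ fun i => Spec (CommRingCat.of (A i))) (w : W) :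
    ∃ (i : n) (U : W.Opens), w ∈ U ∧ Set.range (U.ι ≫ g) ⊆
      Set.range (Sigma.ι (fun i => Spec (CommRingCat.of (A i))) i) := by
  obtain ⟨i, y, hy⟩ := (sigmaOpenCover fun i => Spec (CommRingCat.of (A i))).exists_eq (g w)
  refine ⟨i, g ⁻¹ᵁ (Sigma.ι (fun i => Spec (CommRingCat.of (A i))) i).opensRange, ⟨y, hy⟩, ?_⟩
  rintro _ ⟨z, rfl⟩
  exact z.2

theorem exists_refine {W : Scheme.{u}} (g : W ⟶ ∐ fun i => Spec (CommRingCat.of (A i))) (U : W.Opens) (w : W)
    (hw : w ∈ U) : ∃ (i : n) (D : Type u) (_ : CommRing D) (_ : Algebra R D) (k : Spec (CommRingCat.of D) ⟶ W)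
      (f : A i →ₐ[R] D), IsOpenImmersion k ∧ w ∈ Set.range k ∧ Set.range k ⊆ U ∧
      k ≫ g ≫ covπ A = Spec.map (CommRingCat.ofHom (algebraMap R D)) ∧
      k ≫ g = (pt f).left ≫ Sigma.ι (fun i => Spec (CommRingCat.of (A i))) i := by
  obtain ⟨i, U', hwU', hU'⟩ := exists_component A g w
  obtain ⟨D, _, _, k, hk, hwk, hkU, hks⟩ := exists_local (R := R) (g ≫ covπ A) (U ⊓ U') w ⟨hw, hwU'⟩
  let ι' := Sigma.ι (fun i => Spec (CommRingCat.of (A i))) i
  have hr : Set.range (k ≫ g) ⊆ Set.range ι' := by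
    rintro _ ⟨y, rfl⟩
    exact hU' ⟨⟨k y, (hkU ⟨y, rfl⟩).2⟩, rfl⟩
  have hl := IsOpenImmersion.lift_fac ι' (k ≫ g) hr
  obtain ⟨f, hf⟩ := exists_algHom (IsOpenImmersion.lift ι' (k ≫ g) hr) (by
    rw [← Sigma.ι_desc (fun i => Spec.map (CommRingCat.ofHom (algebraMap R (A i)))) i, ← Category.assoc, hl, Category.assoc]
    exact hks)
  exact ⟨i, D, inferInstance, inferInstance, k, f, hk, hwk, hkU.trans (fun x hx => hx.1), hks, by rw [← hf, hl]⟩

theorem cover_ext [Flat (covπ (R := R) A)] [Surjective (covπ (R := R) A)] {Z X : Over (Spec (CommRingCat.of R))}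
    (p q : Z ⟶ X)
    (h : ∀ (D : Type u) [CommRing D] [Algebra R D] (i : n) (_ : A i →ₐ[R] D) (z : sp R D ⟶ Z), z ≫ p = z ≫ q) :
    p = q := by
  apply Over.OverMorphism.ext
  haveI : Epi (pullback.fst Z.hom (covπ (R := R) A)) := Flat.epi_of_flat_of_surjective _
  rw [← cancel_epi (pullback.fst Z.hom (covπ (R := R) A))]
  refine hom_ext_local _ _ fun y => ?_
  obtain ⟨i, D, _, _, k, f, hk, hyk, -, hks, -⟩ := exists_refine (R := R) A (pullback.snd Z.hom (covπ A)) ⊤ y trivial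
  let z : sp R D ⟶ Z := Over.homMk (k ≫ pullback.fst Z.hom (covπ A)) (by
    refine Eq.trans ?_ hks
    show (k ≫ pullback.fst Z.hom (covπ A)) ≫ Z.hom = _
    rw [Category.assoc, pullback.condition])
  refine ⟨_, k, hk, hyk, ?_⟩
  have e := congrArg CommaMorphism.left (h D i f z)
  simp only [Over.comp_left] at e
  exact (Category.assoc _ _ _).symm.trans (e.trans (Category.assoc _ _ _))

theorem exists_conj (hJ : J ^ 2 = ⊥)
    (hH : TwC.Locally (Spec (CommRingCat.of R)) TwC.Topology.fpqc (fun S' f => ∃ (M : Type) (_ : AddCommGroup M), Nonempty (Grp.mk (Red.bc f H) ≅ Grp.mk (Red.DS S' M))))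
    (u v : H ⟶ G) [IsMonHom u] [IsMonHom v]
    (hmod : ∀ (B : Type u) [CommRing B] [Algebra R B], (∀ r ∈ J, algebraMap R B r = 0) →
      ∀ h : sp R B ⟶ H, h ≫ u = h ≫ v) :
    ∃ g : 𝟙_ (Over (Spec (CommRingCat.of R))) ⟶ G,
      toUnit (Over.mk (Spec.map (CommRingCat.ofHom (Ideal.Quotient.mk J))) : Over (Spec (CommRingCat.of R))) ≫ g = 1 ∧
      ∀ (X : Over (Spec (CommRingCat.of R))) (h : X ⟶ H),
        h ≫ v = (toUnit X ≫ g) * (h ≫ u) * (toUnit X ≫ g)⁻¹ := by
  classical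
  obtain ⟨S', f, hflat, hsurj, hcov, hloc⟩ := hH
  haveI : Flat f := hflat
  let e₀ : Spec (CommRingCat.of R) ⟶ G.left := (η[G] : 𝟙_ _ ⟶ G).left
  have hloc' : ∀ s : S', ∃ (V : S'.Opens) (hV : IsAffineOpen V) (M : Type) (_ : AddCommGroup M) (W : G.left.Opens),
      s ∈ V ∧ IsAffineOpen W ∧ Set.range (hV.fromSpec ≫ f ≫ e₀) ⊆ W ∧
      Nonempty (Grp.mk (Red.bc (hV.fromSpec ≫ f) H) ≅
        Grp.mk (sp Γ(S', V) (MonoidAlgebra Γ(S', V) (Multiplicative M)))) := by
    intro s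
    obtain ⟨U, hsU, M, _, hE⟩ := hloc s
    obtain ⟨_, ⟨W, hW, rfl⟩, hsW, -⟩ := G.left.isBasis_affineOpens.exists_subset_of_mem_open
      (Set.mem_univ ((f ≫ e₀) s)) isOpen_univ
    obtain ⟨_, ⟨V, hV, rfl⟩, hsV, hVU⟩ := S'.isBasis_affineOpens.exists_subset_of_mem_open
      (show s ∈ (U : Set S') ∩ ((f ≫ e₀) ⁻¹ᵁ W : Set S') from ⟨hsU, hsW⟩) (U.isOpen.inter ((f ≫ e₀) ⁻¹ᵁ W).isOpen)
    replace hV : IsAffineOpen V := hV
    let j : Spec (CommRingCat.of Γ(S', V)) ⟶ U := IsOpenImmersion.lift U.ι hV.fromSpec (by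
      intro z hz; exact (Scheme.Opens.range_ι U).ge (hVU (hV.range_fromSpec.le hz)).1)
    refine ⟨V, hV, M, inferInstance, W, hsV, hW, ?_,
      exists_chart_affine j (U.ι ≫ f) (hV.fromSpec ≫ f) (by rw [← Category.assoc, IsOpenImmersion.lift_fac]) H hE⟩
    rintro _ ⟨y, rfl⟩
    exact (hVU (hV.range_fromSpec.le ⟨y, rfl⟩)).2
  choose V hV M hM W hsV hW hrW hE using hloc'
  obtain ⟨Wc, hWc, himg⟩ := hcov ⊤ (isAffineOpen_top _)
  obtain ⟨t, ht⟩ := hWc.elim_finite_subcover (fun s => (V s : Set S')) (fun s => (V s).isOpen)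
    fun s _ => Set.mem_iUnion.mpr ⟨s, hsV s⟩
  let A : t → Type u := fun i => Γ(S', V i.1)
  let ψ : ∀ i : t, CommRingCat.of R ⟶ Γ(S', V i.1) := fun i => Spec.preimage ((hV i.1).fromSpec ≫ f)
  letI : ∀ i, Algebra R (A i) := fun i => (ψ i).hom.toAlgebra
  have hstr : ∀ i : t, str R (A i) = (hV i.1).fromSpec ≫ f := fun i => Spec.map_preimage _
  let π := covπ (R := R) A
  haveI hπf : Flat π := by
    refine IsZariskiLocalAtSource.sigmaDesc fun i => ?_
    show Flat (str R (A i))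
    rw [hstr]
    infer_instance
  haveI hπs : Surjective π := ⟨fun y => by
    obtain ⟨s, hs, rfl⟩ : y ∈ f.base '' (Wc : Set S') := himg.ge trivial
    obtain ⟨i, hi, hsi⟩ := Set.mem_iUnion₂.mp (ht hs)
    obtain ⟨p, hp⟩ := (hV i).range_fromSpec.ge hsi
    refine ⟨Sigma.ι (fun i => Spec (CommRingCat.of (A i))) ⟨i, hi⟩ p, ?_⟩
    rw [← Scheme.Hom.comp_apply, Sigma.ι_desc]
    show str R (A ⟨i, hi⟩) p = _
    rw [hstr]
    exact congrArg f hp⟩
  haveI : Finite t := inferInstance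
  haveI hπq : QuasiCompact π := inferInstance
  letI : ∀ x, AddCommGroup (M x) := hM
  have hca : ∀ i : t, ∃ (c : Chart H (A i) (Multiplicative (M i.1))) (a : sp R (A i) ⟶ G), IsInt J u v hJ c a :=
    fun i => by
    obtain ⟨e₁⟩ := bc_congr_grp (hstr i) H
    obtain ⟨e₂⟩ := hE i.1
    obtain ⟨c⟩ := exists_chart (A i) ⟨e₁ ≪≫ e₂⟩
    refine ⟨c, exists_isInt J u v hJ hmod c (hW i.1) ?_⟩
    rw [one_left, show Spec.map (CommRingCat.ofHom (algebraMap R (A i))) = (hV i.1).fromSpec ≫ f from hstr i,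
      Category.assoc]
    exact hrW i.1
  choose c a ha using hca
  let σ : (∐ fun i => Spec (CommRingCat.of (A i))) ⟶ G.left := Sigma.desc fun i => (a i).left
  have hσ : ∀ (i : t) (D : Type u) [CommRing D] [Algebra R D] (φ : A i →ₐ[R] D),
      (pt φ).left ≫ Sigma.ι (fun i => Spec (CommRingCat.of (A i))) i ≫ σ = (pt φ ≫ a i).left := fun i D _ _ φ => by
    rw [Sigma.ι_desc, Over.comp_left]
  have hcompat : ∀ {Z : Scheme.{u}} (g₁ g₂ : Z ⟶ ∐ fun i => Spec (CommRingCat.of (A i))),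
      g₁ ≫ π = g₂ ≫ π → g₁ ≫ σ = g₂ ≫ σ := by
    intro Z g₁ g₂ h12
    refine hom_ext_local _ _ fun z => ?_
    obtain ⟨i', U', hzU', hU'⟩ := exists_component A g₂ z
    obtain ⟨i, D, _, _, k, φ, hk, hzk, hkU, hks, hkg⟩ := exists_refine (R := R) A g₁ U' z hzU'
    let ι' := Sigma.ι (fun i => Spec (CommRingCat.of (A i))) i'
    have hr : Set.range (k ≫ g₂) ⊆ Set.range ι' := by
      rintro _ ⟨y, rfl⟩
      exact hU' ⟨⟨k y, hkU ⟨y, rfl⟩⟩, rfl⟩
    have hl := IsOpenImmersion.lift_fac ι' (k ≫ g₂) hr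
    obtain ⟨φ', hφ'⟩ := exists_algHom (IsOpenImmersion.lift ι' (k ≫ g₂) hr) (by
      rw [← Sigma.ι_desc (fun i => Spec.map (CommRingCat.ofHom (algebraMap R (A i)))) i', ← Category.assoc, hl, Category.assoc]
      show k ≫ g₂ ≫ π = _
      rw [← h12]
      exact hks)
    refine ⟨_, k, hk, hzk, ?_⟩
    rw [← Category.assoc, hkg, ← Category.assoc, ← hl, hφ', Category.assoc, Category.assoc, hσ, hσ,
      isInt_compat (ha i) (ha i') D φ φ']
  let gL : Spec (CommRingCat.of R) ⟶ G.left := EffectiveEpi.desc π σ hcompat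
  have hgL : π ≫ gL = σ := EffectiveEpi.fac π σ hcompat
  let g : 𝟙_ (Over (Spec (CommRingCat.of R))) ⟶ G := Over.homMk gL (by
    show gL ≫ G.hom = 𝟙 _
    rw [← cancel_epi π, reassoc_of% hgL, Category.comp_id]
    refine Sigma.hom_ext _ _ fun i => ?_
    rw [Sigma.ι_desc_assoc, Sigma.ι_desc]
    exact Over.w (a i))
  have hg : ∀ (i : t) (D : Type u) [CommRing D] [Algebra R D] (φ : A i →ₐ[R] D),
      toUnit (sp R D) ≫ g = pt φ ≫ a i := by
    intro i D _ _ φ
    apply Over.OverMorphism.ext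
    rw [← hσ i D φ, ← hgL, Sigma.ι_desc_assoc, Over.comp_left]
    rw [show (toUnit (sp R D)).left = Spec.map (CommRingCat.ofHom (algebraMap R D)) from
      (Category.comp_id _).symm.trans (Over.w (toUnit (sp R D))), ← φ.comp_algebraMap, CommRingCat.ofHom_comp,
      Spec.map_comp, Category.assoc, pt_left]
    rfl
  refine ⟨g, cover_ext A _ _ fun D _ _ i φ z => ?_, fun X h => cover_ext A _ _ fun D _ _ i φ z => ?_⟩
  · rw [MonObj.comp_one, ← Category.assoc, toUnit_unique (z ≫ toUnit _) (toUnit _), hg i D φ]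
    refine (ha i).mod J u v hJ D (fun r hr => ?_) φ
    have e' : CommRingCat.ofHom (Ideal.Quotient.mk J) ≫ Spec.preimage z.left = CommRingCat.ofHom (algebraMap R D) :=
      Spec.map_injective (by rw [Spec.map_comp, Spec.map_preimage]; exact Over.w z)
    have e2 := congrArg (fun s => s.hom r) e'
    simp only [CommRingCat.hom_comp, CommRingCat.hom_ofHom, RingHom.comp_apply,
      Ideal.Quotient.eq_zero_iff_mem.mpr hr, map_zero] at e2
    exact e2.symm
  · rw [MonObj.comp_mul, MonObj.comp_mul, GrpObj.comp_inv, ← Category.assoc z, ← Category.assoc z,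
      ← Category.assoc z, toUnit_unique (z ≫ toUnit _) (toUnit _), hg i D φ]
    exact (ha i).conj D φ (z ≫ h)

end Groth.Agent.ConjInt
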