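import Groth.Agent.ConjInt.LiftLocal
import Groth.Agent.ConjInt.BaseChange

/-!
Homomorphisms between groups of multiplicative type lift uniquely along a nilpotent ideal.
-/

universe u

open CategoryTheory Limits MonoidalCategory CartesianMonoidalCategory MonObj GrpObj AlgebraicGeometry
open CoactBr Groth.Agent.DiagGrp Groth.Agent.DiagAction
open scoped TensorProduct

set_option backward.isDefEq.respectTransparency false

noncomputable section

namespace Groth.Agent.ConjInt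

variable {R : Type u} [CommRing R] {J : Ideal R}

/-- finite covers by affine schemes carrying charts -/
theorem exists_chart_cover (H G : Over (Spec (CommRingCat.of R))) [GrpObj H] [GrpObj G]
    (hH : TwC.Locally (Spec (CommRingCat.of R)) TwC.Topology.fpqc (fun S' f => ∃ (M : Type) (_ : AddCommGroup M), Nonempty (Grp.mk (Red.bc f H) ≅ Grp.mk (Red.DS S' M)))) :
    ∃ (n : Type u) (_ : Finite n) (A : n → Type u) (_ : ∀ i, CommRing (A i)) (_ : ∀ i, Algebra R (A i))
      (M : n → Type) (_ : ∀ i, CommGroup (M i)),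
      (∀ i, Module.Flat R (A i)) ∧ (∀ p : PrimeSpectrum R, ∃ i, p ∈ Set.range (PrimeSpectrum.comap (algebraMap R (A i)))) ∧
      ∀ i, Nonempty (Chart H (A i) (M i)) ∧ IsAffine (Red.bc (str R (A i)) H).left ∧
        ∃ W : G.left.Opens, IsAffineOpen W ∧ Set.range (1 : sp R (A i) ⟶ G).left ⊆ W := by
  classical
  obtain ⟨S', f, hflat, -, hcov, hloc⟩ := hH
  haveI : Flat f := hflat
  let e₀ : Spec (CommRingCat.of R) ⟶ G.left := (η[G] : 𝟙_ _ ⟶ G).left
  have hloc' : ∀ s : S', ∃ (V : S'.Opens) (hV : IsAffineOpen V) (M : Type) (_ : AddCommGroup M) (W : G.left.Opens),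
      s ∈ V ∧ IsAffineOpen W ∧ Set.range (hV.fromSpec ≫ f ≫ e₀) ⊆ W ∧
      Nonempty (Grp.mk (Red.bc (hV.fromSpec ≫ f) H) ≅
        Grp.mk (sp Γ(S', V) (MonoidAlgebra Γ(S', V) (Multiplicative M)))) := by
    intro s
    obtain ⟨U, hsU, M, _, hE⟩ := hloc s
    obtain ⟨_, ⟨W, hW, rfl⟩, hsW, -⟩ := G.left.isBasis_affineOpens.exists_subset_of_mem_open
      (Set.mem_univ ((f ≫ e₀) s)) isOpen_univ
    obtain ⟨_, ⟨V, hV, rfl⟩, hsV, hVU⟩ := S'.isBasis_affineOpens.exists_subset_of_mem_open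
      (show s ∈ (U : Set S') ∩ ((f ≫ e₀) ⁻¹ᵁ W : Set S') from ⟨hsU, hsW⟩) (U.isOpen.inter ((f ≫ e₀) ⁻¹ᵁ W).isOpen)
    replace hV : IsAffineOpen V := hV
    let j : Spec (CommRingCat.of Γ(S', V)) ⟶ U := IsOpenImmersion.lift U.ι hV.fromSpec (by
      intro z hz; exact (Scheme.Opens.range_ι U).ge (hVU (hV.range_fromSpec.le hz)).1)
    refine ⟨V, hV, M, inferInstance, W, hsV, hW, ?_,
      exists_chart_affine j (U.ι ≫ f) (hV.fromSpec ≫ f) (by rw [← Category.assoc, IsOpenImmersion.lift_fac]) H hE⟩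
    rintro _ ⟨y, rfl⟩
    exact (hVU (hV.range_fromSpec.le ⟨y, rfl⟩)).2
  choose V hV M hM W hsV hW hrW hE using hloc'
  obtain ⟨Wc, hWc, himg⟩ := hcov ⊤ (isAffineOpen_top _)
  obtain ⟨t, ht⟩ := hWc.elim_finite_subcover (fun s => (V s : Set S')) (fun s => (V s).isOpen)
    fun s _ => Set.mem_iUnion.mpr ⟨s, hsV s⟩
  let A : t → Type u := fun i => Γ(S', V i.1)
  let ψ : ∀ i : t, CommRingCat.of R ⟶ Γ(S', V i.1) := fun i => Spec.preimage ((hV i.1).fromSpec ≫ f)
  letI : ∀ i, Algebra R (A i) := fun i => (ψ i).hom.toAlgebra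
  have hstr : ∀ i : t, str R (A i) = (hV i.1).fromSpec ≫ f := fun i => Spec.map_preimage _
  letI : ∀ x, AddCommGroup (M x) := hM
  refine ⟨t, inferInstance, A, inferInstance, inferInstance, fun i => Multiplicative (M i.1), inferInstance,
    fun i => ?_, fun p => ?_, fun i => ?_⟩
  · have : Flat (str R (A i)) := by rw [hstr]; infer_instance
    exact RingHom.flat_algebraMap_iff.mp ((HasRingHomProperty.Spec_iff (P := @Flat)).mp this)
  · obtain ⟨s, hs, hsp⟩ := himg.ge (Set.mem_univ (show Spec (CommRingCat.of R) from p))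
    obtain ⟨i, hi, hsi⟩ := Set.mem_iUnion₂.mp (ht hs)
    obtain ⟨q, hq⟩ := (hV i).range_fromSpec.ge hsi
    refine ⟨⟨i, hi⟩, q, ?_⟩
    show str R (A ⟨i, hi⟩) q = _
    rw [hstr]
    exact (congrArg f hq).trans hsp
  · obtain ⟨e₁⟩ := bc_congr_grp (hstr i) H
    obtain ⟨e₂⟩ := hE i.1
    refine ⟨exists_chart (A i) ⟨e₁ ≪≫ e₂⟩, ?_, W i.1, hW i.1, ?_⟩
    · let e := (Over.forget _).mapIso ((Grp.forget _).mapIso (e₁ ≪≫ e₂))
      haveI : IsAffine ((Over.forget _).obj ((Grp.forget _).obj (Grp.mk (sp (A i) (MonoidAlgebra (A i) (Multiplicative (M i.1))))))) :=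
        inferInstanceAs (IsAffine (Spec (CommRingCat.of (MonoidAlgebra (A i) (Multiplicative (M i.1))))))
      exact IsAffine.of_isIso (X := (Red.bc (str R (A i)) H).left) e.hom
    · rw [one_left, show Spec.map (CommRingCat.ofHom (algebraMap R (A i))) = (hV i.1).fromSpec ≫ f from hstr i,
        Category.assoc]
      exact hrW i.1

theorem flat_covπ {n : Type u} (A : n → Type u) [∀ i, CommRing (A i)] [∀ i, Algebra R (A i)]
    (hA : ∀ i, Module.Flat R (A i)) : Flat (covπ (R := R) A) :=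
  IsZariskiLocalAtSource.sigmaDesc fun i =>
    (HasRingHomProperty.Spec_iff (P := @Flat)).mpr (RingHom.flat_algebraMap_iff.mpr (hA i))

theorem surjective_covπ {n : Type u} (A : n → Type u) [∀ i, CommRing (A i)] [∀ i, Algebra R (A i)]
    (hA : ∀ p : PrimeSpectrum R, ∃ i, p ∈ Set.range (PrimeSpectrum.comap (algebraMap R (A i)))) :
    Surjective (covπ (R := R) A) := ⟨fun p => by
  obtain ⟨i, q, hq⟩ := hA p
  refine ⟨Sigma.ι (fun i => Spec (CommRingCat.of (A i))) i q, ?_⟩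
  rw [← Scheme.Hom.comp_apply, Sigma.ι_desc]
  exact hq⟩

theorem exists_pair_cover (H' H : Over (Spec (CommRingCat.of R))) [GrpObj H'] [GrpObj H]
    (hH' : TwC.Locally (Spec (CommRingCat.of R)) TwC.Topology.fpqc (fun S' f => ∃ (M : Type) (_ : AddCommGroup M), Nonempty (Grp.mk (Red.bc f H') ≅ Grp.mk (Red.DS S' M))))
    (hH : TwC.Locally (Spec (CommRingCat.of R)) TwC.Topology.fpqc (fun S' f => ∃ (M : Type) (_ : AddCommGroup M), Nonempty (Grp.mk (Red.bc f H) ≅ Grp.mk (Red.DS S' M)))) :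
    ∃ (n : Type u) (_ : Finite n) (D : n → Type u) (_ : ∀ i, CommRing (D i)) (_ : ∀ i, Algebra R (D i))
      (M' M : n → Type) (_ : ∀ i, CommGroup (M' i)) (_ : ∀ i, CommGroup (M i)),
      Flat (covπ (R := R) D) ∧ Surjective (covπ (R := R) D) ∧
      ∀ i, Nonempty (Chart H' (D i) (M' i)) ∧ Nonempty (Chart H (D i) (M i)) := by
  obtain ⟨n₁, _, A₁, _, _, M₁, _, hf₁, hs₁, hc₁⟩ := exists_chart_cover H' H' hH'
  obtain ⟨n₂, _, A₂, _, _, M₂, _, hf₂, hs₂, hc₂⟩ := exists_chart_cover H H hH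
  refine ⟨n₁ × n₂, inferInstance, fun p => A₁ p.1 ⊗[R] A₂ p.2, inferInstance, inferInstance,
    fun p => M₁ p.1, fun p => M₂ p.2, inferInstance, inferInstance,
    flat_covπ _ fun p => ?_, surjective_covπ _ fun q => ?_, fun p => ?_⟩
  · haveI := hf₁ p.1
    haveI := hf₂ p.2
    infer_instance
  · obtain ⟨i, q₁, hq₁⟩ := hs₁ q
    obtain ⟨j, q₂, hq₂⟩ := hs₂ q
    obtain ⟨z, hz₁, hz₂⟩ := Scheme.Pullback.exists_preimage_pullback (f := str R (A₁ i)) (g := str R (A₂ j)) q₁ q₂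
      (hq₁.trans hq₂.symm)
    refine ⟨(i, j), (pullbackSpecIso R (A₁ i) (A₂ j)).hom z, ?_⟩
    have e : (pullbackSpecIso R (A₁ i) (A₂ j)).hom ≫ str R (A₁ i ⊗[R] A₂ j) =
        pullback.fst (str R (A₁ i)) (str R (A₂ j)) ≫ str R (A₁ i) := by
      rw [← pullbackSpecIso_hom_fst, Category.assoc, ← Spec.map_comp]
      congr 2
    have e' := congrArg (fun f => f z) e
    simp only [Scheme.Hom.comp_apply] at e'
    rw [show PrimeSpectrum.comap (algebraMap R (A₁ i ⊗[R] A₂ j)) ((pullbackSpecIso R (A₁ i) (A₂ j)).hom z) =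
      str R (A₁ i ⊗[R] A₂ j) ((pullbackSpecIso R (A₁ i) (A₂ j)).hom z) from rfl, e', hz₁]
    exact hq₁
  · obtain ⟨⟨c'⟩, -⟩ := hc₁ p.1
    obtain ⟨⟨c⟩, -⟩ := hc₂ p.2
    refine ⟨⟨c'.map⟩, ?_⟩
    letI : Algebra (A₂ p.2) (A₁ p.1 ⊗[R] A₂ p.2) := Algebra.TensorProduct.rightAlgebra
    exact ⟨c.map⟩

theorem exists_hom_of_points {n : Type u} [Finite n] (A : n → Type u) [∀ i, CommRing (A i)] [∀ i, Algebra R (A i)]
    [Flat (covπ (R := R) A)] [Surjective (covπ (R := R) A)] {Z X : Over (Spec (CommRingCat.of R))}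
    (F : ∀ (D : Type u) [CommRing D] [Algebra R D] (i : n), (A i →ₐ[R] D) → (sp R D ⟶ Z) → (sp R D ⟶ X))
    (hind : ∀ (D : Type u) [CommRing D] [Algebra R D] (i j : n) (f : A i →ₐ[R] D) (g : A j →ₐ[R] D) (z : sp R D ⟶ Z),
      F D i f z = F D j g z)
    (hnat : ∀ {D D' : Type u} [CommRing D] [Algebra R D] [CommRing D'] [Algebra R D'] (i : n) (f : A i →ₐ[R] D)
      (k : D →ₐ[R] D') (z : sp R D ⟶ Z), pt k ≫ F D i f z = F D' i (k.comp f) (pt k ≫ z)) :
    ∃ φ : Z ⟶ X, ∀ (D : Type u) [CommRing D] [Algebra R D] (i : n) (f : A i →ₐ[R] D) (z : sp R D ⟶ Z),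
      z ≫ φ = F D i f z := by
  classical
  let P := pullback Z.hom (covπ (R := R) A)
  let q : P ⟶ Z.left := pullback.fst _ _
  have hP : ∀ y : P, ∃ (i : n) (D : Type u) (_ : CommRing D) (_ : Algebra R D) (k : Spec (CommRingCat.of D) ⟶ P)
      (_ : A i →ₐ[R] D), IsOpenImmersion k ∧ y ∈ Set.range k ∧
      k ≫ q ≫ Z.hom = Spec.map (CommRingCat.ofHom (algebraMap R D)) := by
    intro y
    obtain ⟨i, D, _, _, k, f, hk, hyk, -, hks, -⟩ := exists_refine (R := R) A (pullback.snd Z.hom (covπ A)) ⊤ y trivial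
    refine ⟨i, D, inferInstance, inferInstance, k, f, hk, hyk, ?_⟩
    rw [← hks, pullback.condition]
  choose i D hD hD' k f hk hyk hks using hP
  haveI := hk
  let 𝒰 : P.OpenCover := P.openCoverOfIsOpenCover (fun y => (k y).opensRange) (eq_top_iff.mpr fun y _ =>
    TopologicalSpace.Opens.mem_iSup.mpr ⟨y, hyk y⟩)
  let z : ∀ y, sp R (D y) ⟶ Z := fun y => Over.homMk (k y ≫ q) ((Category.assoc _ _ _).trans (hks y))
  let g : ∀ y, Spec (CommRingCat.of (D y)) ⟶ X.left := fun y => (F (D y) (i y) (f y) (z y)).left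
  let G : ∀ y, ((k y).opensRange : Scheme.{u}) ⟶ X.left := fun y => (k y).isoOpensRange.inv ≫ g y
  have hcompat : ∀ a b, pullback.fst (𝒰.f a) (𝒰.f b) ≫ G a = pullback.snd (𝒰.f a) (𝒰.f b) ≫ G b := by
    intro a b
    refine hom_ext_local _ _ fun w => ?_
    let sa := pullback.fst (𝒰.f a) (𝒰.f b) ≫ (k a).isoOpensRange.inv
    let sb := pullback.snd (𝒰.f a) (𝒰.f b) ≫ (k b).isoOpensRange.inv
    have hsab : sa ≫ k a = sb ≫ k b := by
      simp only [sa, sb, Category.assoc, Scheme.Hom.isoOpensRange_inv_comp]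
      exact pullback.condition
    obtain ⟨E, _, _, l, hl, hwl, -, hls⟩ := exists_local (R := R) (sa ≫ k a ≫ q ≫ Z.hom) ⊤ w trivial
    obtain ⟨fa, hfa⟩ := exists_algHom (A := D a) (l ≫ sa) (by rw [← hls, ← hks a]; simp only [Category.assoc])
    obtain ⟨fb, hfb⟩ := exists_algHom (A := D b) (l ≫ sb) (by
      rw [← hls, ← hks b]
      simp only [Category.assoc]
      rw [← Category.assoc sb, ← hsab, Category.assoc])
    have hz : pt fa ≫ z a = pt fb ≫ z b := by
      apply Over.OverMorphism.ext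
      simp only [Over.comp_left, z, Over.homMk_left, ← hfa, ← hfb, Category.assoc]
      rw [← Category.assoc sa, hsab, Category.assoc]
    have e := hind E (i a) (i b) (fa.comp (f a)) (fb.comp (f b)) (pt fa ≫ z a)
    rw [← hnat, hz, ← hnat] at e
    have e' := congrArg CommaMorphism.left e
    simp only [Over.comp_left, ← hfa, ← hfb, Category.assoc] at e'
    refine ⟨_, l, hl, hwl, ?_⟩
    simp only [sa, sb, Category.assoc] at e'
    exact e'
  let σ := 𝒰.glueMorphisms G hcompat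
  have hσ : ∀ y, k y ≫ σ = g y := fun y => by
    rw [← (k y).isoOpensRange_hom_ι, Category.assoc]
    show (k y).isoOpensRange.hom ≫ 𝒰.f y ≫ σ = _
    rw [Scheme.Cover.ι_glueMorphisms]
    exact (k y).isoOpensRange.hom_inv_id_assoc _
  have key : ∀ (E : Type u) [CommRing E] [Algebra R E] (j : n) (f' : A j →ₐ[R] E) (l : Spec (CommRingCat.of E) ⟶ P)
      (hl : l ≫ q ≫ Z.hom = Spec.map (CommRingCat.ofHom (algebraMap R E))),
      l ≫ σ = (F E j f' (Over.homMk (l ≫ q) ((Category.assoc _ _ _).trans hl))).left := by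
    intro E _ _ j f' l hl
    refine hom_ext_local _ _ fun w => ?_
    obtain ⟨E', _, _, m, hm, hwm, hmy, hms⟩ := exists_local (R := R) (l ≫ q ≫ Z.hom) (l ⁻¹ᵁ (k (l w)).opensRange) w
      (hyk (l w))
    obtain ⟨fa, hfa⟩ := exists_algHom (A := D (l w)) (IsOpenImmersion.lift (k (l w)) (m ≫ l) (by
      rintro _ ⟨x, rfl⟩; exact hmy ⟨x, rfl⟩)) (by
      rw [← hms]
      show _ ≫ Spec.map _ = _
      rw [← hks (l w), IsOpenImmersion.lift_fac_assoc, Category.assoc])
    obtain ⟨fb, hfb⟩ := exists_algHom (A := E) m (by rw [← hms, hl])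
    have hlift := IsOpenImmersion.lift_fac (k (l w)) (m ≫ l) (by rintro _ ⟨x, rfl⟩; exact hmy ⟨x, rfl⟩)
    rw [hfa] at hlift
    refine ⟨_, m, hm, hwm, ?_⟩
    let zl : sp R E ⟶ Z := Over.homMk (l ≫ q) ((Category.assoc _ _ _).trans hl)
    have hz : pt fa ≫ z (l w) = pt fb ≫ zl := by
      apply Over.OverMorphism.ext
      simp only [Over.comp_left, z, zl, Over.homMk_left]
      rw [reassoc_of% hlift, ← hfb]
    have e := hind E' (i (l w)) j (fa.comp (f (l w))) (fb.comp f') (pt fa ≫ z (l w))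
    rw [← hnat, hz, ← hnat] at e
    have e' := congrArg CommaMorphism.left e
    simp only [Over.comp_left, ← hfb] at e'
    rw [← Category.assoc m, ← hlift, Category.assoc, hσ]
    exact e'
  haveI hqf : Flat q := MorphismProperty.pullback_fst _ _ inferInstance
  haveI hqs : Surjective q := MorphismProperty.pullback_fst _ _ inferInstance
  haveI : QuasiCompact (covπ (R := R) A) := inferInstance
  haveI hqq : QuasiCompact q := MorphismProperty.pullback_fst _ _ inferInstance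
  have hσc : ∀ {W : Scheme.{u}} (g₁ g₂ : W ⟶ P), g₁ ≫ q = g₂ ≫ q → g₁ ≫ σ = g₂ ≫ σ := by
    intro W g₁ g₂ h12
    refine hom_ext_local _ _ fun w => ?_
    obtain ⟨j₂, U₂, hwU, hU₂⟩ := exists_component A (g₂ ≫ pullback.snd _ _) w
    obtain ⟨j₁, E, _, _, m, f₁, hm, hwm, hmU, hms, -⟩ :=
      exists_refine (R := R) A (g₁ ≫ pullback.snd Z.hom (covπ A)) U₂ w hwU
    have h1 : (m ≫ g₁) ≫ q ≫ Z.hom = Spec.map (CommRingCat.ofHom (algebraMap R E)) := by
      rw [← hms]
      simp only [q, Category.assoc, pullback.condition]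
    let ι' := Sigma.ι (fun i => Spec (CommRingCat.of (A i))) j₂
    have hr : Set.range (m ≫ g₂ ≫ pullback.snd Z.hom (covπ A)) ⊆ Set.range ι' := by
      rintro _ ⟨x, rfl⟩
      exact hU₂ ⟨⟨m x, hmU ⟨x, rfl⟩⟩, rfl⟩
    have h2 : (m ≫ g₂) ≫ q ≫ Z.hom = Spec.map (CommRingCat.ofHom (algebraMap R E)) := by
      rw [← h1]
      simp only [Category.assoc]
      rw [← Category.assoc g₂, ← h12, Category.assoc]
    have hl := IsOpenImmersion.lift_fac ι' (m ≫ g₂ ≫ pullback.snd Z.hom (covπ A)) hr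
    obtain ⟨f₂, hf₂⟩ := exists_algHom (IsOpenImmersion.lift ι' (m ≫ g₂ ≫ pullback.snd Z.hom (covπ A)) hr) (by
      rw [← h2, ← Sigma.ι_desc (fun i => Spec.map (CommRingCat.ofHom (algebraMap R (A i)))) j₂, ← Category.assoc, hl]
      simp only [q, Category.assoc, pullback.condition])
    refine ⟨_, m, hm, hwm, ?_⟩
    rw [← Category.assoc, ← Category.assoc, key E j₁ f₁ (m ≫ g₁) h1, key E j₂ f₂ (m ≫ g₂) h2, hind E j₁ j₂ f₁ f₂]
    congr 2
    apply Over.OverMorphism.ext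
    show (m ≫ g₁) ≫ q = (m ≫ g₂) ≫ q
    rw [Category.assoc, Category.assoc, h12]
  let gL : Z.left ⟶ X.left := EffectiveEpi.desc q σ hσc
  have hgL : q ≫ gL = σ := EffectiveEpi.fac q σ hσc
  let φ : Z ⟶ X := Over.homMk gL (by
    show gL ≫ X.hom = Z.hom
    rw [← cancel_epi q, reassoc_of% hgL]
    refine 𝒰.hom_ext _ _ fun y => ?_
    rw [← cancel_epi (k y).isoOpensRange.hom]
    show (k y).isoOpensRange.hom ≫ (k y).opensRange.ι ≫ σ ≫ X.hom = (k y).isoOpensRange.hom ≫ (k y).opensRange.ι ≫ q ≫ Z.hom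
    rw [Scheme.Hom.isoOpensRange_hom_ι_assoc, Scheme.Hom.isoOpensRange_hom_ι_assoc, reassoc_of% hσ, hks]
    exact Over.w (F (D y) (i y) (f y) (z y)))
  refine ⟨φ, fun E _ _ j f' z' => ?_⟩
  apply Over.OverMorphism.ext
  let l : Spec (CommRingCat.of E) ⟶ P := pullback.lift z'.left
    ((pt f').left ≫ Sigma.ι (fun i => Spec (CommRingCat.of (A i))) j) (by
      rw [Category.assoc, Sigma.ι_desc, pt_left, ← Spec.map_comp]
      refine (Over.w z').trans ?_
      show Spec.map _ = _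
      congr 1
      exact (CommRingCat.hom_ext f'.comp_algebraMap).symm)
  have hlq : l ≫ q = z'.left := pullback.lift_fst _ _ _
  have := key E j f' l (by rw [← Category.assoc, hlq]; exact Over.w z')
  rw [← hgL] at this
  rw [Over.comp_left]
  show z'.left ≫ gL = _
  refine (congrArg (· ≫ gL) hlq).symm.trans ((Category.assoc l q gL).trans (this.trans ?_))
  congr 2
  exact Over.OverMorphism.ext hlq

variable {H' H : Over (Spec (CommRingCat.of R))} [GrpObj H'] [GrpObj H]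

/-- a homomorphism which is multiplicative on affine points -/
theorem isMonHom_of_affine_points (φ : H' ⟶ H)
    (h : ∀ (D : Type u) [CommRing D] [Algebra R D] (a b : sp R D ⟶ H'), (a * b) ≫ φ = (a ≫ φ) * (b ≫ φ)) :
    IsMonHom φ := by
  have e : ∀ (X : Over (Spec (CommRingCat.of R))) (a b : X ⟶ H'), (a * b) ≫ φ = (a ≫ φ) * (b ≫ φ) := fun X a b =>
    affine_point_ext _ _ fun D _ _ z => by
      rw [← Category.assoc, MonObj.comp_mul, h, MonObj.comp_mul, Category.assoc, Category.assoc]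
  refine ⟨?_, ?_⟩
  · have h1 := e (𝟙_ _) 1 1
    rw [_root_.one_mul] at h1
    have h2 : (1 : 𝟙_ _ ⟶ H') ≫ φ = 1 := left_eq_mul.mp h1
    rw [Hom.one_def, toUnit_unique (toUnit (𝟙_ _)) (𝟙 _), Category.id_comp, Hom.one_def,
      toUnit_unique (toUnit (𝟙_ _)) (𝟙 _), Category.id_comp] at h2
    exact h2
  · have := e (H' ⊗ H') (fst H' H') (snd H' H')
    rw [Hom.mul_def, lift_fst_snd, Category.id_comp] at this
    rw [this, Hom.mul_def, lift_fst_comp_snd_comp]

/-- A homomorphism modulo a nilpotent ideal between groups of multiplicative type lifts uniquely. -/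
theorem existsUnique_lift_hom (hJ : IsNilpotent J) (θ : ModFam J H' H)
    (hH' : TwC.Locally (Spec (CommRingCat.of R)) TwC.Topology.fpqc (fun S' f => ∃ (M : Type) (_ : AddCommGroup M), Nonempty (Grp.mk (Red.bc f H') ≅ Grp.mk (Red.DS S' M))))
    (hH : TwC.Locally (Spec (CommRingCat.of R)) TwC.Topology.fpqc (fun S' f => ∃ (M : Type) (_ : AddCommGroup M), Nonempty (Grp.mk (Red.bc f H) ≅ Grp.mk (Red.DS S' M)))) :
    ∃! φ : H' ⟶ H, IsMonHom φ ∧ ∀ (B : Type u) [CommRing B] [Algebra R B] (hB : ∀ r ∈ J, algebraMap R B r = 0)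
      (h : sp R B ⟶ H'), h ≫ φ = θ.f B hB h := by
  obtain ⟨n, _, A, _, _, M', M, _, _, hflat, hsurj, hc⟩ := exists_pair_cover H' H hH' hH
  have hF : ∀ i, Nonempty (LiftFam θ (A i)) := fun i => by
    obtain ⟨⟨c'⟩, ⟨c⟩⟩ := hc i
    exact exists_liftFam c' c θ hJ
  let F := fun i => (hF i).some
  have hu : ∀ (D : Type u) [CommRing D] [Algebra R D] (i : n) (f : A i →ₐ[R] D) (L : LiftFam θ D) (z : sp R D ⟶ H'),
      (F i).f D f z = L.f D (AlgHom.id R D) z := fun D _ _ i f L z => by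
    letI : Algebra (A i) D := f.toRingHom.toAlgebra
    haveI : IsScalarTower R (A i) D := IsScalarTower.of_algebraMap_eq fun r => (f.commutes r).symm
    obtain ⟨⟨c'⟩, ⟨c⟩⟩ := hc i
    have e := LiftFam.unique (c'.map (D := D)) (c.map (D := D)) hJ ((F i).res f) L D (AlgHom.id R D) z
    rw [← e]
    rfl
  obtain ⟨φ, hφ⟩ := exists_hom_of_points A (fun D _ _ i f z => (F i).f D f z)
    (fun D _ _ i j f g z => (hu D i f ((F j).res g) z).trans rfl)
    (fun i f k z => (F i).nat f k z)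
  refine ⟨φ, ⟨isMonHom_of_affine_points φ fun D _ _ a b => cover_ext A _ _ fun E _ _ i f k => ?_, ?_⟩, ?_⟩
  · rw [MonObj.comp_mul, ← Category.assoc, ← Category.assoc, ← Category.assoc, MonObj.comp_mul, hφ E i f, hφ E i f,
      hφ E i f, (F i).mul]
  · intro B _ _ hB h
    refine cover_ext A _ _ fun E _ _ i f k => ?_
    obtain ⟨κ, rfl⟩ := pt_surjective k
    have hE : ∀ r ∈ J, algebraMap R E r = 0 := fun r hr => by rw [← κ.commutes r, hB r hr, map_zero]
    rw [← Category.assoc, hφ E i f, θ.nat hB hE, (F i).mod hE]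
  · rintro φ' ⟨hφ'm, hφ'⟩
    haveI := hφ'm
    refine cover_ext A _ _ fun E _ _ i f z => ?_
    let L : LiftFam θ E :=
      { f := fun B _ _ _ h => h ≫ φ'
        nat := fun a k h => (Category.assoc _ _ _).symm
        mul := fun a h k => mul_comp' h k φ'
        mod := fun hB a h => hφ' _ hB h }
    rw [hφ E i f]
    exact (hu E i f L z).symm

end Groth.Agent.ConjInt
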