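import Groth.Agent.ConjInt.Local

/-!
Homomorphisms between diagonalisable groups lift uniquely along a nilpotent ideal: functor-of-points version over a
chart.
-/

universe u

open CategoryTheory Limits MonoidalCategory CartesianMonoidalCategory MonObj GrpObj AlgebraicGeometry
open CoactBr Groth.Agent.DiagGrp Groth.Agent.DiagAction

set_option backward.isDefEq.respectTransparency false

noncomputable section

namespace Groth.Agent.ConjInt

variable {R : Type u} [CommRing R] {J : Ideal R}

/-- a family of maps of points over rings killed by `J` -/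
structure ModFam (J : Ideal R) (H' H : Over (Spec (CommRingCat.of R))) [GrpObj H'] [GrpObj H] where
  /-- the maps -/
  f : ∀ (B : Type u) [CommRing B] [Algebra R B], (∀ r ∈ J, algebraMap R B r = 0) → (sp R B ⟶ H') → (sp R B ⟶ H)
  nat : ∀ {B B' : Type u} [CommRing B] [Algebra R B] [CommRing B'] [Algebra R B']
    (hB : ∀ r ∈ J, algebraMap R B r = 0) (hB' : ∀ r ∈ J, algebraMap R B' r = 0) (k : B →ₐ[R] B') (h : sp R B ⟶ H'),
    pt k ≫ f B hB h = f B' hB' (pt k ≫ h)
  mul : ∀ {B : Type u} [CommRing B] [Algebra R B] (hB : ∀ r ∈ J, algebraMap R B r = 0) (h k : sp R B ⟶ H'),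
    f B hB (h * k) = f B hB h * f B hB k

/-- a multiplicative family of maps of points over `A`-algebras extending `θ` -/
structure LiftFam {H' H : Over (Spec (CommRingCat.of R))} [GrpObj H'] [GrpObj H] (θ : ModFam J H' H)
    (A : Type u) [CommRing A] [Algebra R A] where
  /-- the maps -/
  f : ∀ (B : Type u) [CommRing B] [Algebra R B] (_ : A →ₐ[R] B), (sp R B ⟶ H') → (sp R B ⟶ H)
  nat : ∀ {B B' : Type u} [CommRing B] [Algebra R B] [CommRing B'] [Algebra R B'] (a : A →ₐ[R] B) (k : B →ₐ[R] B')
    (h : sp R B ⟶ H'), pt k ≫ f B a h = f B' (k.comp a) (pt k ≫ h)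
  mul : ∀ {B : Type u} [CommRing B] [Algebra R B] (a : A →ₐ[R] B) (h k : sp R B ⟶ H'),
    f B a (h * k) = f B a h * f B a k
  mod : ∀ {B : Type u} [CommRing B] [Algebra R B] (hB : ∀ r ∈ J, algebraMap R B r = 0) (a : A →ₐ[R] B)
    (h : sp R B ⟶ H'), f B a h = θ.f B hB h

variable {H' H : Over (Spec (CommRingCat.of R))} [GrpObj H'] [GrpObj H] {θ : ModFam J H' H}
variable {A : Type u} [CommRing A] [Algebra R A]

/-- restriction of a family to an algebra -/
def LiftFam.res (F : LiftFam θ A) {D : Type u} [CommRing D] [Algebra R D] (g : A →ₐ[R] D) : LiftFam θ D where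
  f B _ _ a h := F.f B (a.comp g) h
  nat a k h := (F.nat (a.comp g) k h).trans (by rfl)
  mul a h k := F.mul (a.comp g) h k
  mod hB a h := F.mod hB (a.comp g) h

variable {M M' : Type} [CommGroup M] [CommGroup M'] (c' : Chart H' A M') (c : Chart H A M)

/-- the quotient `A/JA` -/
abbrev AJ (J : Ideal R) (A : Type u) [CommRing A] [Algebra R A] : Type u := A ⧸ J.map (algebraMap R A)

theorem hAJ (N : Type) [CommGroup N] : ∀ r ∈ J, algebraMap R (MonoidAlgebra (AJ J A) N) r = 0 := fun r hr => by
  rw [IsScalarTower.algebraMap_apply R (AJ J A), IsScalarTower.algebraMap_apply R A (AJ J A),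
    Ideal.Quotient.algebraMap_eq, Ideal.Quotient.eq_zero_iff_mem.mpr (Ideal.mem_map_of_mem _ hr), map_zero]

theorem hAJ' : ∀ r ∈ J, algebraMap R (AJ J A) r = 0 := fun r hr => by
  rw [IsScalarTower.algebraMap_apply R A (AJ J A),
    Ideal.Quotient.algebraMap_eq, Ideal.Quotient.eq_zero_iff_mem.mpr (Ideal.mem_map_of_mem _ hr)]

/-- reduction modulo `J` -/
abbrev redJ (J : Ideal R) (A : Type u) [CommRing A] [Algebra R A] (N : Type) [CommGroup N] :
    MonoidAlgebra A N →ₐ[A] MonoidAlgebra (AJ J A) N :=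
  MonoidAlgebra.lift A _ N (MonoidAlgebra.of (AJ J A) N)

theorem redJ_coeff (N : Type) [CommGroup N] (w : MonoidAlgebra A N) (a : N) :
    (redJ J A N w).coeff a = Ideal.Quotient.mk _ (w.coeff a) := by
  induction w using MonoidAlgebra.induction_linear with
  | zero => simp
  | add w w' hw hw' => simp only [map_add, MonoidAlgebra.coeff_add, Finsupp.add_apply, hw, hw']
  | single b r =>
    simp [redJ, Algebra.smul_def, Finsupp.single_apply, apply_ite]
    rcases eq_or_ne b a with h | h <;> simp [h]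

theorem conv_comp {B : Type u} [CommRing B] [Algebra A B] (x : MonoidAlgebra A M →ₐ[A] MonoidAlgebra A M')
    (hx : ∀ m, IsGL (x (MonoidAlgebra.single m 1))) (φ ψ : MonoidAlgebra A M' →ₐ[A] B) :
    (conv φ ψ).comp x = conv (φ.comp x) (ψ.comp x) := by
  refine algHom_ext_single fun m => ?_
  let L : MonoidAlgebra A (M' × M') →ₐ[A] B := MonoidAlgebra.lift A B (M' × M')
    (((φ : MonoidAlgebra A M' →* B).comp (MonoidAlgebra.of A M')).coprod
      ((ψ : MonoidAlgebra A M' →* B).comp (MonoidAlgebra.of A M')))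
  have h1 : L.comp (dg A M') = conv φ ψ := algHom_ext_single fun a => by
    simp [L, dg, conv_single, MonoidAlgebra.mapDomainAlgHom_apply, MonoidAlgebra.mapDomain_single]
  have h2 : L.comp (il A M') = φ := algHom_ext_single fun a => by
    simp [L, il, MonoidAlgebra.mapDomainAlgHom_apply, MonoidAlgebra.mapDomain_single, ← MonoidAlgebra.one_def]
  have h3 : L.comp (ir A M') = ψ := algHom_ext_single fun a => by
    simp [L, ir, MonoidAlgebra.mapDomainAlgHom_apply, MonoidAlgebra.mapDomain_single, ← MonoidAlgebra.one_def]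
  rw [AlgHom.comp_apply, conv_single, AlgHom.comp_apply, AlgHom.comp_apply, ← h1, AlgHom.comp_apply, (hx m).1,
    map_mul, ← DFunLike.congr_fun h2 (x (MonoidAlgebra.single m 1)), ← DFunLike.congr_fun h3 (x (MonoidAlgebra.single m 1))]
  rfl

theorem isGL_of_conv {A' : Type u} [CommRing A'] [Algebra A A'] (x : MonoidAlgebra A M →ₐ[A] MonoidAlgebra A' M')
    (h1 : ((dg A' M').restrictScalars A).comp x =
      conv (((il A' M').restrictScalars A).comp x) (((ir A' M').restrictScalars A).comp x))
    (h2 : ((cu A' M').restrictScalars A).comp x =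
      conv (((cu A' M').restrictScalars A).comp x) (((cu A' M').restrictScalars A).comp x)) (m : M) :
    IsGL (x (MonoidAlgebra.single m 1)) := by
  refine ⟨?_, ?_⟩
  · have := DFunLike.congr_fun h1 (MonoidAlgebra.single m 1)
    rw [conv_single] at this
    exact this
  · have := DFunLike.congr_fun h2 (MonoidAlgebra.single m 1)
    rw [conv_single] at this
    have hu : IsUnit (((cu A' M').restrictScalars A).comp x (MonoidAlgebra.single m 1)) :=
      ((Group.isUnit m).map (MonoidAlgebra.of A M)).map _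
    exact hu.mul_eq_left.mp this.symm

theorem conv_univ (A' : Type u) [CommRing A'] [Algebra A A'] (g : MonoidAlgebra A M' →ₐ[A] MonoidAlgebra A' M')
    (hg : ∀ m, g (MonoidAlgebra.single m 1) = MonoidAlgebra.single m 1) :
    conv (((il A' M').restrictScalars A).comp g) (((ir A' M').restrictScalars A).comp g) =
      ((dg A' M').restrictScalars A).comp g ∧
    conv (((cu A' M').restrictScalars A).comp g) (((cu A' M').restrictScalars A).comp g) =
      ((cu A' M').restrictScalars A).comp g := by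
  constructor <;> refine algHom_ext_single fun a => ?_ <;>
    simp [conv_single, hg, dg, il, ir, cu, MonoidAlgebra.mapDomainAlgHom_apply, MonoidAlgebra.mapDomain_single,
      MonoidAlgebra.single_mul_single]

theorem LiftFam.exists_univ (F : LiftFam θ A) : ∃ x : MonoidAlgebra A M →ₐ[A] MonoidAlgebra A M',
    (∀ m, IsGL (x (MonoidAlgebra.single m 1))) ∧
    ptR R ((redJ J A M').comp x) ≫ c.χ = θ.f _ (hAJ M') (ptR R (redJ J A M') ≫ c'.χ) ∧
    ∀ (B : Type u) [CommRing B] [Algebra R B] [Algebra A B] [IsScalarTower R A B]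
      (g : MonoidAlgebra A M' →ₐ[A] B),
      F.f B (IsScalarTower.toAlgHom R A B) (ptR R g ≫ c'.χ) = ptR R (g.comp x) ≫ c.χ := by
  obtain ⟨x, hx⟩ := c.surj (MonoidAlgebra A M') (F.f _ (IsScalarTower.toAlgHom R A _) c'.χ)
  have key : ∀ (B : Type u) [CommRing B] [Algebra R B] [Algebra A B] [IsScalarTower R A B]
      (g : MonoidAlgebra A M' →ₐ[A] B),
      F.f B (IsScalarTower.toAlgHom R A B) (ptR R g ≫ c'.χ) = ptR R (g.comp x) ≫ c.χ := by
    intro B _ _ _ _ g
    rw [ptR_comp, Category.assoc, hx, F.nat]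
    congr 1
    exact AlgHom.ext fun a => (g.commutes a).symm
  have hgl : ∀ (B : Type u) [CommRing B] [Algebra R B] [Algebra A B] [IsScalarTower R A B]
      (g g' : MonoidAlgebra A M' →ₐ[A] B), (conv g g').comp x = conv (g.comp x) (g'.comp x) := fun B _ _ _ _ g g' =>
    c.inj _ _ _ (by rw [c.mul, ← key, ← key, ← key, c'.mul, F.mul])
  refine ⟨x, isGL_of_conv x ?_ ?_, ?_, key⟩
  · rw [← hgl, show conv ((il A M').restrictScalars A) ((ir A M').restrictScalars A) = (dg A M').restrictScalars A from
      algHom_ext_single fun a => by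
        simp [conv_single, dg, il, ir, MonoidAlgebra.mapDomainAlgHom_apply, MonoidAlgebra.mapDomain_single,
          MonoidAlgebra.single_mul_single]]
  · rw [← hgl, show conv ((cu A M').restrictScalars A) ((cu A M').restrictScalars A) = (cu A M').restrictScalars A from
      algHom_ext_single fun a => by simp [conv_single, cu]]
  · rw [← key, F.mod (hAJ M')]

theorem isNilpotent_of_mem_ker (hJ : IsNilpotent J) :
    ∀ x ∈ RingHom.ker (Ideal.Quotient.mk (J.map (algebraMap R A))), IsNilpotent x := fun x hx => by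
  obtain ⟨n, hn⟩ := hJ
  rw [Ideal.mk_ker] at hx
  refine ⟨n, ?_⟩
  have := Ideal.pow_mem_pow hx n
  rw [← Ideal.map_pow, hn] at this
  simpa using this

include c c' in
theorem LiftFam.unique (hJ : IsNilpotent J) (F F' : LiftFam θ A) (B : Type u) [CommRing B] [Algebra R B]
    (a : A →ₐ[R] B) (h : sp R B ⟶ H') : F.f B a h = F'.f B a h := by
  obtain ⟨x, hx, hxm, hxk⟩ := F.exists_univ c' c
  obtain ⟨y, hy, hym, hyk⟩ := F'.exists_univ c' c
  have hxy : (redJ J A M').comp x = (redJ J A M').comp y := c.inj _ _ _ (hxm.trans hym.symm)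
  have e : x = y := algHom_ext_single fun m => (hx m).eq_of_map_eq _ (isNilpotent_of_mem_ker hJ) (hy m) fun b => by
    rw [← redJ_coeff, ← redJ_coeff, ← AlgHom.comp_apply, hxy, AlgHom.comp_apply]
  letI : Algebra A B := a.toRingHom.toAlgebra
  haveI : IsScalarTower R A B := IsScalarTower.of_algebraMap_eq fun r => (a.commutes r).symm
  obtain ⟨g, rfl⟩ := c'.surj B h
  rw [show a = IsScalarTower.toAlgHom R A B from AlgHom.ext fun _ => rfl, hxk, hyk, e]

include c c' in
theorem exists_liftFam (θ : ModFam J H' H) (hJ : IsNilpotent J) : Nonempty (LiftFam θ A) := by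
  obtain ⟨y, hy⟩ := c.surj _ (θ.f _ (hAJ M') (ptR R (redJ J A M') ≫ c'.χ))
  have hcu : ∀ r ∈ J, algebraMap R (AJ J A) r = 0 := hAJ'
  have key : ∀ (B : Type u) [CommRing B] [Algebra R B] [Algebra A B] [IsScalarTower R A B]
      (hB : ∀ r ∈ J, algebraMap R B r = 0) (k : MonoidAlgebra (AJ J A) M' →ₐ[A] B),
      θ.f B hB (ptR R (k.comp (redJ J A M')) ≫ c'.χ) = ptR R (k.comp y) ≫ c.χ := fun B _ _ _ _ hB k => by
    rw [ptR_comp, ptR_comp, Category.assoc, Category.assoc, hy, θ.nat]
  have hg : ∀ m, redJ J A M' (MonoidAlgebra.single m 1) = MonoidAlgebra.single m 1 := fun m => by simp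
  have hyGL : ∀ m, IsGL (y (MonoidAlgebra.single m 1)) := by
    refine isGL_of_conv y ?_ ?_
    · refine c.inj _ _ _ ?_
      rw [c.mul, ← key _ (hAJ _), ← key _ (hAJ _), ← key _ (hAJ _), ← θ.mul, ← c'.mul, (conv_univ (AJ J A) _ hg).1]
    · refine c.inj _ _ _ ?_
      rw [c.mul, ← key _ hcu, ← θ.mul, ← c'.mul, (conv_univ (AJ J A) _ hg).2]
  have hker := isNilpotent_of_mem_ker (A := A) hJ
  choose z hz hz' using fun m =>
    exists_isGL_lift (Ideal.Quotient.mk (J.map (algebraMap R A))) Ideal.Quotient.mk_surjective hker (hyGL m)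
  have hredz : ∀ m, redJ J A M' (z m) = y (MonoidAlgebra.single m 1) := fun m =>
    MonoidAlgebra.ext (Finsupp.ext fun a => by rw [redJ_coeff, hz'])
  let F : M →* MonoidAlgebra A M' :=
    { toFun := z
      map_one' := (hz 1).eq_of_map_eq _ hker isGL_one fun a => by
        rw [← redJ_coeff, ← redJ_coeff, hredz, ← MonoidAlgebra.one_def, map_one, map_one]
      map_mul' := fun m n => (hz _).eq_of_map_eq _ hker ((hz m).mul (hz n)) fun a => by
        rw [← redJ_coeff, ← redJ_coeff, hredz, map_mul, hredz, hredz, ← map_mul,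
          MonoidAlgebra.single_mul_single, _root_.one_mul] }
  let Φ : MonoidAlgebra A M →ₐ[A] MonoidAlgebra A M' := MonoidAlgebra.lift A _ M F
  have hΦ : ∀ m, Φ (MonoidAlgebra.single m 1) = z m := fun m => by
    simp only [Φ, MonoidAlgebra.lift_single, one_smul]; rfl
  have hΦy : (redJ J A M').comp Φ = y := algHom_ext_single fun m => by rw [AlgHom.comp_apply, hΦ, hredz]
  have hΦGL : ∀ m, IsGL (Φ (MonoidAlgebra.single m 1)) := fun m => by rw [hΦ]; exact hz m
  have hex : ∀ (B : Type u) [CommRing B] [Algebra R B] (a : A →ₐ[R] B) (h : sp R B ⟶ H'),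
      ∃ k : sp R B ⟶ H, ∀ (_ : Algebra A B) (_ : IsScalarTower R A B) (g : MonoidAlgebra A M' →ₐ[A] B),
        algebraMap A B = a.toRingHom → ptR R g ≫ c'.χ = h → k = ptR R (g.comp Φ) ≫ c.χ := by
    intro B _ _ a h
    letI : Algebra A B := a.toRingHom.toAlgebra
    haveI : IsScalarTower R A B := IsScalarTower.of_algebraMap_eq fun r => (a.commutes r).symm
    obtain ⟨g₀, hg₀⟩ := c'.surj B h
    refine ⟨ptR R (g₀.comp Φ) ≫ c.χ, fun alg' tow' g halg hg' => ?_⟩
    obtain rfl : alg' = a.toRingHom.toAlgebra := Algebra.algebra_ext _ _ fun r => DFunLike.congr_fun halg r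
    rw [c'.inj B g g₀ (hg'.trans hg₀.symm)]
  choose f hf using hex
  have hfe : ∀ (B : Type u) [CommRing B] [Algebra R B] [Algebra A B] [IsScalarTower R A B]
      (g : MonoidAlgebra A M' →ₐ[A] B),
      f B (IsScalarTower.toAlgHom R A B) (ptR R g ≫ c'.χ) = ptR R (g.comp Φ) ≫ c.χ := fun B _ _ _ _ g =>
    hf B _ _ inferInstance inferInstance g rfl rfl
  refine ⟨⟨fun B _ _ a h => f B a h, ?_, ?_, ?_⟩⟩
  · intro B B' _ _ _ _ a k h
    letI : Algebra A B := a.toRingHom.toAlgebra
    haveI : IsScalarTower R A B := IsScalarTower.of_algebraMap_eq fun r => (a.commutes r).symm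
    letI : Algebra A B' := (k.comp a).toRingHom.toAlgebra
    haveI : IsScalarTower R A B' := IsScalarTower.of_algebraMap_eq fun r => ((k.comp a).commutes r).symm
    let kA : B →ₐ[A] B' := { k.toRingHom with commutes' := fun r => rfl }
    obtain ⟨g, rfl⟩ := c'.surj B h
    show pt k ≫ f B a _ = f B' (k.comp a) _
    rw [show a = IsScalarTower.toAlgHom R A B from AlgHom.ext fun _ => rfl, hfe,
      show k.comp (IsScalarTower.toAlgHom R A B) = IsScalarTower.toAlgHom R A B' from AlgHom.ext fun _ => rfl]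
    rw [show pt k = ptR R kA from rfl, ← Category.assoc, ← ptR_comp, ← Category.assoc, ← ptR_comp, hfe]
    rfl
  · intro B _ _ a h h'
    letI : Algebra A B := a.toRingHom.toAlgebra
    haveI : IsScalarTower R A B := IsScalarTower.of_algebraMap_eq fun r => (a.commutes r).symm
    obtain ⟨g, rfl⟩ := c'.surj B h
    obtain ⟨g', rfl⟩ := c'.surj B h'
    show f B a _ = f B a _ * f B a _
    rw [show a = IsScalarTower.toAlgHom R A B from AlgHom.ext fun _ => rfl, ← c'.mul, hfe, hfe, hfe,
      conv_comp Φ hΦGL, c.mul]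
  · intro B _ _ hB a h
    letI : Algebra A B := a.toRingHom.toAlgebra
    haveI : IsScalarTower R A B := IsScalarTower.of_algebraMap_eq fun r => (a.commutes r).symm
    obtain ⟨g, rfl⟩ := c'.surj B h
    show f B a _ = θ.f B hB _
    have hJB : J.map (algebraMap R A) ≤ RingHom.ker (algebraMap A B) := Ideal.map_le_iff_le_comap.mpr fun r hr => by
      show algebraMap A B (algebraMap R A r) = 0
      rw [← IsScalarTower.algebraMap_apply, hB r hr]
    let kB : MonoidAlgebra (AJ J A) M' →ₐ[A] B :=
      { MonoidAlgebra.liftNCRingHom (Ideal.Quotient.lift _ (algebraMap A B) fun r hr => hJB hr)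
          ((g : MonoidAlgebra A M' →* B).comp (MonoidAlgebra.of A M')) (fun _ _ => Commute.all _ _) with
        commutes' := fun r => by
          show MonoidAlgebra.liftNCRingHom _ _ _ (MonoidAlgebra.single 1 (Ideal.Quotient.mk _ r)) = _
          simp [← MonoidAlgebra.one_def] }
    have hg' : kB.comp (redJ J A M') = g := algHom_ext_single fun m => by simp [kB]
    rw [show a = IsScalarTower.toAlgHom R A B from AlgHom.ext fun _ => rfl, hfe]
    conv_rhs => rw [← hg', key B hB kB]
    rw [← hΦy, ← AlgHom.comp_assoc, hg']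

end Groth.Agent.ConjInt
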