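import Groth.Agent.ConjInt.Subgroup
import Groth.Agent.FpqcDescent.Affine

/-!
Homomorphisms from a group of multiplicative type to a smooth group lift along a square-zero ideal.
-/

universe u

open CategoryTheory Limits MonoidalCategory CartesianMonoidalCategory MonObj GrpObj AlgebraicGeometry
open CoactBr Groth.Agent.DiagGrp Groth.Agent.DiagAction

set_option backward.isDefEq.respectTransparency false

noncomputable section

namespace Groth.Agent.ConjInt

variable {R : Type u} [CommRing R] {J : Ideal R} {hJ : J ^ 2 = ⊥} {G : Over (Spec (CommRingCat.of R))} [GrpObj G]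
variable {A : Type u} [CommRing A] [Algebra R A] {M : Type} [CommGroup M]
variable {d d' : sp R (MonoidAlgebra A M) ⟶ G} {a a' : sp R A ⟶ G}

theorem IsIntPt.unique (ha : IsIntPt J hJ d a) (hb : IsIntPt J hJ d a') : a = a' := by
  obtain ⟨g, hg, rfl⟩ := ha
  obtain ⟨g', hg', rfl⟩ := hb
  rw [cancel_val (JP J A M) (aug A M) (sq_map J hJ) (hg.trans hg'.symm)]

theorem IsIntPt.mul (ha : IsIntPt J hJ d a) (hb : IsIntPt J hJ d' a') : IsIntPt J hJ (d * d') (a * a') := by
  obtain ⟨g, hg, rfl⟩ := ha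
  obtain ⟨g', hg', rfl⟩ := hb
  exact ⟨g * g', by rw [MonObj.comp_mul, hg, hg'], (MonObj.comp_mul _ _ _).symm⟩

theorem IsIntPt.inv (ha : IsIntPt J hJ d a) : IsIntPt J hJ d⁻¹ a⁻¹ := by
  obtain ⟨g, hg, rfl⟩ := ha
  exact ⟨g⁻¹, by rw [GrpObj.comp_inv, hg], (GrpObj.comp_inv _ _).symm⟩

theorem isIntPt_const (y : sp R A ⟶ G) :
    IsIntPt J hJ (pt (IsScalarTower.toAlgHom R A (MonoidAlgebra A M)) ≫ y) y := by
  refine ⟨baseP J A (MonoidAlgebra A M) ≫ y, ?_, ?_⟩
  · rw [← Category.assoc, val_baseC]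
  · rw [← Category.assoc, int_baseC, Category.id_comp]

theorem IsIntPt.comp (ha : IsIntPt J hJ d a) {B : Type u} [CommRing B] [Algebra R B] {N : Type} [CommGroup N]
    (f₀ : A →ₐ[R] B) (f : MonoidAlgebra A M →ₐ[R] MonoidAlgebra B N)
    (hf₀ : ∀ x : A, f (algebraMap A (MonoidAlgebra A M) x) = algebraMap B (MonoidAlgebra B N) (f₀ x))
    (h1 : ∀ m, (f (MonoidAlgebra.single m 1)).coeff 1 = f₀ ((MonoidAlgebra.single m (1 : A)).coeff 1)) :
    IsIntPt J hJ (pt f ≫ d) (pt f₀ ≫ a) := by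
  obtain ⟨g, hg, rfl⟩ := ha
  refine ⟨pt (thickMap J f fun x => ⟨_, hf₀ x⟩) ≫ g, ?_, ?_⟩
  · rw [← Category.assoc, val_thickMap, Category.assoc, hg]
  · rw [← Category.assoc (ptR R (intC B N hJ)), int_thickMap hJ _ _ _ hf₀ h1, Category.assoc]

theorem IsIntPt.mod (ha : IsIntPt J hJ d a)
    (hd : ∀ (B : Type u) [CommRing B] [Algebra R B], (∀ r ∈ J, algebraMap R B r = 0) →
      ∀ k : MonoidAlgebra A M →ₐ[R] B, pt k ≫ d = 1)
    (B : Type u) [CommRing B] [Algebra R B] (hB : ∀ r ∈ J, algebraMap R B r = 0) (f : A →ₐ[R] B) : pt f ≫ a = 1 := by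
  obtain ⟨g, hg, rfl⟩ := ha
  have hz : ∀ x ∈ J.map (algebraMap R A), f x = 0 := by
    intro x hx
    have : J.map (algebraMap R A) ≤ RingHom.ker f := Ideal.map_le_iff_le_comap.mpr fun r hr => by
      show f (algebraMap R A r) = 0
      rw [f.commutes, hB r hr]
    exact this hx
  have e : f.comp ((intC A M hJ).restrictScalars R) =
      f.comp (((aug A M).comp (Cs J A M).val).restrictScalars R) := by
    refine AlgHom.ext fun z => ?_
    obtain ⟨z, b, hb⟩ := z
    show f (z.coeff 1) = f (aug A M z)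
    have h1 := hz _ (coeff_mem J A M hb 1)
    have h2 : aug A M (z - algebraMap A _ b) ∈ J.map (algebraMap R A) := by
      have := Ideal.mem_map_of_mem (aug A M).toRingHom hb
      have e1 : (aug A M).toRingHom.comp (algebraMap R (MonoidAlgebra A M)) = algebraMap R A :=
        ((aug A M).restrictScalars R).comp_algebraMap
      rw [Ideal.map_map, e1] at this
      exact this
    have h2' := hz _ h2
    simp only [MonoidAlgebra.coeff_sub, MonoidAlgebra.coe_algebraMap, Function.comp_apply, MonoidAlgebra.coeff_single,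
      Algebra.algebraMap_self, RingHom.id_apply, Finsupp.sub_apply, Finsupp.single_eq_same, map_sub, sub_eq_zero] at h1
    rw [map_sub, AlgHom.commutes, map_sub, sub_eq_zero] at h2'
    exact h1.trans h2'.symm
  calc pt f ≫ ptR R (intC A M hJ) ≫ g = (pt f ≫ pt ((intC A M hJ).restrictScalars R)) ≫ g := (Category.assoc _ _ _).symm
    _ = pt (f.comp (((aug A M).comp (Cs J A M).val).restrictScalars R)) ≫ g := by rw [← pt_comp, e]
    _ = pt (f.comp ((aug A M).restrictScalars R)) ≫ ptR R (Cs J A M).val ≫ g := by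
      rw [← Category.assoc (pt (f.comp ((aug A M).restrictScalars R))), ← pt_comp]; rfl
    _ = 1 := by rw [hg, hd B hB]

theorem isAffine_of_multType (H : Over (Spec (CommRingCat.of R))) [GrpObj H]
    (hH : TwC.Locally (Spec (CommRingCat.of R)) TwC.Topology.fpqc (fun S' f => ∃ (M : Type) (_ : AddCommGroup M), Nonempty (Grp.mk (Red.bc f H) ≅ Grp.mk (Red.DS S' M)))) :
    IsAffine H.left := by
  obtain ⟨n, _, A, _, _, M, _, hf, hs, hc⟩ := exists_chart_cover H H hH
  haveI := flat_covπ A hf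
  haveI := surjective_covπ A hs
  haveI := FpqcDescent.isAffineHom_descendsAlong.{u}
  haveI : QuasiCompact (covπ (R := R) A) := inferInstance
  haveI : IsAffineHom H.hom := by
    refine MorphismProperty.of_pullback_fst_of_descendsAlong (P := @IsAffineHom)
      (Q := @Surjective ⊓ @Flat ⊓ @QuasiCompact) (f := covπ (R := R) A) ⟨⟨inferInstance, inferInstance⟩, inferInstance⟩ ?_
    refine (IsZariskiLocalAtTarget.iff_of_openCover (P := @IsAffineHom)
      (sigmaOpenCover fun i => Spec (CommRingCat.of (A i)))).mpr fun i => ?_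
    haveI hi : IsAffine (pullback H.hom (str R (A i))) := (hc i).2.1
    let e : pullback (pullback.fst (covπ (R := R) A) H.hom) (Sigma.ι (fun i => Spec (CommRingCat.of (A i))) i) ≅
        pullback H.hom (str R (A i)) :=
      pullbackSymmetry _ _ ≪≫ pullbackRightPullbackFstIso _ _ _ ≪≫
        pullback.congrHom (Sigma.ι_desc _ _) rfl ≪≫ pullbackSymmetry _ _
    haveI : IsAffine (pullback (pullback.fst (covπ (R := R) A) H.hom) (Sigma.ι (fun i => Spec (CommRingCat.of (A i))) i)) :=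
      IsAffine.of_isIso e.hom
    exact @isAffineHom_of_isAffine _ _ _ (IsAffine.of_isIso e.hom) (inferInstanceAs (IsAffine (Spec (CommRingCat.of (A i)))))
  exact isAffine_of_isAffineHom H.hom

variable {H K : Over (Spec (CommRingCat.of R))} [GrpObj H] [GrpObj K]

/-- the failure of `w` to be multiplicative -/
def defect (w : H ⟶ K) {X : Over (Spec (CommRingCat.of R))} (x y : X ⟶ H) : X ⟶ K :=
  (x ≫ w) * (y ≫ w) * ((x * y) ≫ w)⁻¹

theorem comp_defect (w : H ⟶ K) {X Y : Over (Spec (CommRingCat.of R))} (k : Y ⟶ X) (x y : X ⟶ H) :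
    k ≫ defect w x y = defect w (k ≫ x) (k ≫ y) := by
  simp only [defect, MonObj.comp_mul, GrpObj.comp_inv, ← Category.assoc]

theorem exists_lift_smooth (hJ : J ^ 2 = ⊥)
    (hH : TwC.Locally (Spec (CommRingCat.of R)) TwC.Topology.fpqc (fun S' f => ∃ (M : Type) (_ : AddCommGroup M), Nonempty (Grp.mk (Red.bc f H) ≅ Grp.mk (Red.DS S' M))))
    (hK : MoreMor.IsFormallySmoothHom K.hom) (θ : ModFam J H K) :
    ∃ w : H ⟶ K, IsMonHom w ∧ ∀ (B : Type u) [CommRing B] [Algebra R B] (hB : ∀ r ∈ J, algebraMap R B r = 0)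
      (h : sp R B ⟶ H), h ≫ w = θ.f B hB h := by
  haveI := isAffine_of_multType H hH
  let ψP : CommRingCat.of R ⟶ Γ(H.left, ⊤) := Spec.preimage (H.left.isoSpec.inv ≫ H.hom)
  letI := ψP.hom.toAlgebra
  let P : Type u := Γ(H.left, ⊤)
  let hi : sp R Γ(H.left, ⊤) ≅ H := Over.isoMk H.left.isoSpec.symm (Spec.map_preimage _).symm
  let JΓ : Ideal Γ(H.left, ⊤) := J.map (algebraMap R Γ(H.left, ⊤))
  have hkill : ∀ r ∈ J, algebraMap R (Γ(H.left, ⊤) ⧸ JΓ) r = 0 := fun r hr => by
    rw [IsScalarTower.algebraMap_apply R Γ(H.left, ⊤) (Γ(H.left, ⊤) ⧸ JΓ), Ideal.Quotient.algebraMap_eq,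
      Ideal.Quotient.eq_zero_iff_mem.mpr (Ideal.mem_map_of_mem _ hr)]
  let q : Γ(H.left, ⊤) →ₐ[R] Γ(H.left, ⊤) ⧸ JΓ := Ideal.Quotient.mkₐ R JΓ
  let t := θ.f _ hkill (pt q ≫ hi.hom)
  obtain ⟨l, hla, hlb⟩ := hK Γ(H.left, ⊤) JΓ (by rw [← Ideal.map_pow, hJ, Ideal.map_bot]) t.left
    (Spec.map (CommRingCat.ofHom (algebraMap R Γ(H.left, ⊤)))) (by
      rw [Over.w, ← Spec.map_comp, ← CommRingCat.ofHom_comp]
      rfl)
  let l' : sp R Γ(H.left, ⊤) ⟶ K := Over.homMk l hlb
  have hl' : pt q ≫ l' = t := Over.OverMorphism.ext hla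
  let w : H ⟶ K := hi.inv ≫ l'
  have hw : ∀ (B : Type u) [CommRing B] [Algebra R B] (hB : ∀ r ∈ J, algebraMap R B r = 0) (h : sp R B ⟶ H),
      h ≫ w = θ.f B hB h := by
    intro B _ _ hB h
    obtain ⟨x, hx⟩ := pt_surjective (h ≫ hi.inv)
    have hxJ : JΓ ≤ RingHom.ker x.toRingHom := Ideal.map_le_iff_le_comap.mpr fun r hr => by
      show x (algebraMap R _ r) = 0
      rw [x.commutes, hB r hr]
    let x' : Γ(H.left, ⊤) ⧸ JΓ →ₐ[R] B := Ideal.Quotient.liftₐ JΓ x fun r hr => hxJ hr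
    have hxx : x = x'.comp q := AlgHom.ext fun r => rfl
    show h ≫ hi.inv ≫ l' = _
    rw [← Category.assoc, ← hx, hxx, pt_comp, Category.assoc, hl', θ.nat hkill hB]
    congr 1
    rw [← Category.assoc, ← pt_comp, ← hxx, hx, Category.assoc, hi.inv_hom_id, Category.comp_id]
  clear_value w
  have hdef : ∀ (B : Type u) [CommRing B] [Algebra R B] (hB : ∀ r ∈ J, algebraMap R B r = 0)
      (x y : sp R B ⟶ H), defect w x y = 1 := fun B _ _ hB x y => by
    rw [defect, hw B hB, hw B hB, hw B hB, θ.mul, mul_inv_cancel]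
  obtain ⟨n, _, A, _, _, M, _, hflat, hsurj, hc⟩ := exists_chart_cover H K hH
  haveI := flat_covπ A hflat
  haveI := surjective_covπ A hsurj
  let c₀ : ∀ i, Chart H (A i) (M i) := fun i => (hc i).1.some
  let cD : ∀ (D : Type u) [CommRing D] [Algebra R D] (i : n), (A i →ₐ[R] D) → Chart H D (M i) :=
    fun D _ _ i f =>
      letI : Algebra (A i) D := f.toRingHom.toAlgebra
      haveI : IsScalarTower R (A i) D := IsScalarTower.of_algebraMap_eq fun r => (f.commutes r).symm
      (c₀ i).map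
  let dz : ∀ {D : Type u} [CommRing D] [Algebra R D] {N : Type} [CommGroup N], Chart H D N → (sp R D ⟶ H) →
      (sp R (MonoidAlgebra D N) ⟶ K) :=
    fun {D} _ _ {N} _ c z => defect w (pt (IsScalarTower.toAlgHom R D (MonoidAlgebra D N)) ≫ z) c.χ
  have hdz : ∀ {D : Type u} [CommRing D] [Algebra R D] {N : Type} [CommGroup N] (c : Chart H D N) (z : sp R D ⟶ H)
      (B : Type u) [CommRing B] [Algebra R B], (∀ r ∈ J, algebraMap R B r = 0) →
        ∀ k : MonoidAlgebra D N →ₐ[R] B, pt k ≫ dz c z = 1 := fun c z B _ _ hB k => by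
    simp only [dz]
    rw [comp_defect, hdef B hB]
  have hex : ∀ (D : Type u) [CommRing D] [Algebra R D] (i : n) (f : A i →ₐ[R] D) (z : sp R D ⟶ H),
      ∃ a, IsIntPt J hJ (dz (cD D i f) z) a := fun D _ _ i f z => by
    obtain ⟨W, hW, hrW⟩ := (hc i).2.2
    refine exists_isIntPt J hJ _ (hdz _ z _ (fun r hr => ?_) _) hW ?_
    · rw [IsScalarTower.algebraMap_apply R (MonoidAlgebra D (M i)) (MonoidAlgebra D (M i) ⧸ JP J D (M i)),
        Ideal.Quotient.algebraMap_eq, Ideal.Quotient.eq_zero_iff_mem.mpr (Ideal.mem_map_of_mem _ hr)]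
    · rw [← MonObj.comp_one (pt f), Over.comp_left]
      rintro _ ⟨y, rfl⟩
      exact hrW ⟨(pt f).left y, rfl⟩
  choose α hα using hex
  have hchange : ∀ (D : Type u) [CommRing D] [Algebra R D] {N N' : Type} [CommGroup N] [CommGroup N']
      (c : Chart H D N) (c' : Chart H D N') (z : sp R D ⟶ H) (a a' : sp R D ⟶ K),
      IsIntPt J hJ (dz c z) a → IsIntPt J hJ (dz c' z) a' → a = a' := by
    intro D _ _ N N' _ _ c c' z a a' ha ha'
    obtain ⟨x, hx, hc0⟩ := exists_change c c'
    have key := ha.comp (AlgHom.id R D) (x.restrictScalars R) (fun r => x.commutes r) hc0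
    rw [pt_id, Category.id_comp] at key
    refine IsIntPt.unique ?_ ha'
    convert key using 1
    simp only [dz]
    rw [comp_defect, ← Category.assoc, ← pt_comp, show pt (x.restrictScalars R) ≫ c.χ = c'.χ from hx]
    congr 3
    exact AlgHom.ext fun r => (x.commutes r).symm
  have hind : ∀ (D : Type u) [CommRing D] [Algebra R D] (i j : n) (f : A i →ₐ[R] D) (g : A j →ₐ[R] D)
      (z : sp R D ⟶ H), (α D i f z)⁻¹ * (z ≫ w) = (α D j g z)⁻¹ * (z ≫ w) := fun D _ _ i j f g z => by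
    rw [hchange D (cD D i f) (cD D j g) z _ _ (hα D i f z) (hα D j g z)]
  obtain ⟨φ, hφ⟩ := exists_hom_of_points A (fun D _ _ i f z => (α D i f z)⁻¹ * (z ≫ w)) hind
    (fun {D D'} _ _ _ _ i f k z => by
      rw [MonObj.comp_mul, GrpObj.comp_inv, ← Category.assoc]
      congr 2
      letI : Algebra D D' := k.toRingHom.toAlgebra
      haveI : IsScalarTower R D D' := IsScalarTower.of_algebraMap_eq fun r => (k.commutes r).symm
      have hk := (hα D i f z).comp k ((incl D D' (M i)).restrictScalars R) (fun r => by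
          show incl D D' (M i) (algebraMap D (MonoidAlgebra D (M i)) r) = _
          rw [(incl D D' (M i)).commutes, IsScalarTower.algebraMap_apply D D' (MonoidAlgebra D' (M i))]
          rfl) (fun m => by
          by_cases h : m = 1 <;> simp [MonoidAlgebra.coeff_single, Finsupp.single_apply, h])
      refine hchange D' ((cD D i f).map) (cD D' i (k.comp f)) (pt k ≫ z) _ _ ?_ (hα _ _ _ _)
      convert hk using 1
      simp only [dz, Chart.map]
      rw [comp_defect, ← Category.assoc, ← Category.assoc, ← pt_comp, ← pt_comp]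
      congr 3
      refine AlgHom.ext fun r => ?_
      show algebraMap D' (MonoidAlgebra D' (M i)) (k r) = incl D D' (M i) (algebraMap D (MonoidAlgebra D (M i)) r)
      rw [(incl D D' (M i)).commutes, IsScalarTower.algebraMap_apply D D' (MonoidAlgebra D' (M i))]
      rfl)
  refine ⟨φ, isMonHom_of_affine_points φ fun E _ _ z₁' z₂' => cover_ext A _ _ fun D _ _ i f k => ?_,
    fun B _ _ hB h => cover_ext A _ _ fun D _ _ i f k => ?_⟩
  · rw [MonObj.comp_mul, ← Category.assoc, ← Category.assoc, ← Category.assoc, MonObj.comp_mul, hφ D i f, hφ D i f,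
      hφ D i f]
    generalize k ≫ z₁' = z₁
    generalize k ≫ z₂' = z₂
    let c := cD D i f
    let b := pt (IsScalarTower.toAlgHom R D (MonoidAlgebra D (M i)))
    obtain ⟨x₂, hx₂⟩ := c.surj D z₂
    let x₂' : MonoidAlgebra D (M i) →ₐ[D] MonoidAlgebra D (M i) :=
      conv ((Algebra.ofId D (MonoidAlgebra D (M i))).comp x₂) (AlgHom.id D _)
    have hτχ : ptR R x₂' ≫ c.χ = (b ≫ z₂) * c.χ := by
      rw [c.mul, ptR_comp, Category.assoc, hx₂]
      congr 1
      exact ((congrArg (· ≫ c.χ) (pt_id (R := R) (B := MonoidAlgebra D (M i)))).trans (Category.id_comp _))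
    have hτb : ptR R x₂' ≫ b = b := by
      simp only [b, ptR, ← pt_comp]
      congr 1
      exact AlgHom.ext fun r => x₂'.commutes r
    have hτ1 : ∀ m, (x₂' (MonoidAlgebra.single m 1)).coeff 1 = (MonoidAlgebra.single m (1 : D)).coeff 1 := by
      intro m
      by_cases h : m = 1
      · subst h
        rw [← MonoidAlgebra.one_def, map_one x₂']
      · simp [x₂', Algebra.ofId_apply, MonoidAlgebra.coe_algebraMap, MonoidAlgebra.coeff_single,
          MonoidAlgebra.single_mul_single, Finsupp.single_eq_of_ne' h, h]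
    have h1 : IsIntPt J hJ ((b ≫ defect w z₁ z₂) * dz c (z₁ * z₂)) (defect w z₁ z₂ * α D i f (z₁ * z₂)) :=
      (isIntPt_const _).mul (hα D i f _)
    have hsh := (hα D i f z₁).comp (AlgHom.id R D) (x₂'.restrictScalars R) (fun r => x₂'.commutes r) hτ1
    rw [pt_id, Category.id_comp] at hsh
    have h2 := (((isIntPt_const (J := J) (hJ := hJ) (M := M i) (z₁ ≫ w)).mul (hα D i f z₂)).mul
      (isIntPt_const (J := J) (hJ := hJ) (M := M i) (z₁ ≫ w)).inv).mul hsh
    have e : (b ≫ defect w z₁ z₂) * dz c (z₁ * z₂) =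
        (b ≫ z₁ ≫ w) * dz c z₂ * (b ≫ z₁ ≫ w)⁻¹ * (pt (x₂'.restrictScalars R) ≫ dz c z₁) := by
      simp only [dz]
      rw [comp_defect, comp_defect, show pt (x₂'.restrictScalars R) ≫ c.χ = _ from hτχ,
        ← Category.assoc (pt (x₂'.restrictScalars R)), show pt (x₂'.restrictScalars R) ≫ _ = b from hτb]
      show defect w (b ≫ z₁) (b ≫ z₂) * defect w (b ≫ (z₁ * z₂)) c.χ =
        (b ≫ z₁ ≫ w) * defect w (b ≫ z₂) c.χ * (b ≫ z₁ ≫ w)⁻¹ * defect w (b ≫ z₁) ((b ≫ z₂) * c.χ)
      simp only [defect, MonObj.comp_mul, ← Category.assoc, _root_.mul_assoc]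
      group
    rw [e] at h1
    have key := IsIntPt.unique h1 h2
    have e' : α D i f (z₁ * z₂) =
        (defect w z₁ z₂)⁻¹ * ((z₁ ≫ w) * α D i f z₂ * (z₁ ≫ w)⁻¹ * α D i f z₁) := by
      rw [← key]; group
    rw [e', defect]
    group
  · obtain ⟨κ, rfl⟩ := pt_surjective k
    have hD : ∀ r ∈ J, algebraMap R D r = 0 := fun r hr => by rw [← κ.commutes r, hB r hr, map_zero]
    rw [← Category.assoc, hφ D i f, θ.nat hB hD, ← hw D hD]
    have h1 : α D i f (pt κ ≫ h) = 1 := by
      have := (hα D i f (pt κ ≫ h)).mod (hdz _ _) D hD (AlgHom.id R D)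
      rwa [pt_id, Category.id_comp] at this
    rw [h1, inv_one, _root_.one_mul]

end Groth.Agent.ConjInt
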