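import Groth.Agent.ConjInt.Thick
import Groth.Agent.DiagAction.GroupLike
import Groth.Agent.DiagAction.Algebra
import Groth.Agent.DiagGrp.Hom

/-!
Homomorphisms out of a diagonalisable group which agree modulo a square-zero ideal: the canonical conjugating
point, obtained by integrating over the group.
-/

universe u

open CategoryTheory Limits MonoidalCategory CartesianMonoidalCategory MonObj GrpObj AlgebraicGeometry
open CoactBr Groth.Agent.DiagGrp Groth.Agent.DiagAction

set_option backward.isDefEq.respectTransparency false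

noncomputable section

namespace Groth.Agent.ConjInt

variable {R : Type u} [CommRing R]

section Algebra

variable (J : Ideal R) (A : Type u) [CommRing A] [Algebra R A] (M : Type) [CommGroup M]

/-- the ideal generated by `J` in `A[M]` -/
abbrev JP : Ideal (MonoidAlgebra A M) := J.map (algebraMap R (MonoidAlgebra A M))

/-- `A + J A[M]` -/
abbrev Cs : Subalgebra A (MonoidAlgebra A M) := thick A (JP J A M)

variable {A M} in
/-- the invariant integral -/
def coeffOne : MonoidAlgebra A M →ₗ[A] A where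
  toFun z := z.coeff 1
  map_add' x y := by simp
  map_smul' r x := by simp

/-- the augmentation -/
def aug : MonoidAlgebra A M →ₐ[A] A := MonoidAlgebra.lift A A M 1

theorem coeff_mem {z : MonoidAlgebra A M} (hz : z ∈ JP J A M) (m : M) :
    z.coeff m ∈ J.map (algebraMap R A) := by
  let K : Ideal (MonoidAlgebra A M) :=
    RingHom.ker (MonoidAlgebra.mapRingHom (R := A) (S := A ⧸ J.map (algebraMap R A)) M (Ideal.Quotient.mk _))
  have hle : JP J A M ≤ K := Ideal.map_le_iff_le_comap.mpr fun r hr => by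
    show MonoidAlgebra.mapRingHom M (Ideal.Quotient.mk (J.map (algebraMap R A))) (algebraMap R (MonoidAlgebra A M) r) = 0
    rw [IsScalarTower.algebraMap_apply R A (MonoidAlgebra A M)]
    simp [Ideal.Quotient.eq_zero_iff_mem.mpr (Ideal.mem_map_of_mem (algebraMap R A) hr)]
  have h := congrArg (fun w => w.coeff m) (RingHom.mem_ker.mp (hle hz))
  simpa [Ideal.Quotient.eq_zero_iff_mem] using h

theorem sq_map {B : Type u} [CommRing B] [Algebra R B] (hJ : J ^ 2 = ⊥) : J.map (algebraMap R B) ^ 2 = ⊥ := by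
  rw [← Ideal.map_pow, hJ, Ideal.map_bot]

theorem coeffOne_mem (z : MonoidAlgebra A M) (hz : z ∈ JP J A M) : coeffOne z ∈ J.map (algebraMap R A) :=
  coeff_mem J A M hz 1

variable {J} in
/-- integration on `A + J A[M]` -/
def intC (hJ : J ^ 2 = ⊥) : Cs J A M →ₐ[A] A :=
  intHom coeffOne (by simp [coeffOne, MonoidAlgebra.one_def]) (coeffOne_mem J A M) (sq_map J hJ) (sq_map J hJ)

theorem intC_apply (hJ : J ^ 2 = ⊥) (z : Cs J A M) : intC A M hJ z = (z : MonoidAlgebra A M).coeff 1 := rfl

end Algebra

variable (R) in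
/-- a point, with the scalars restricted to `R` -/
abbrev ptR {A B B' : Type u} [CommRing A] [CommRing B] [CommRing B'] [Algebra R A] [Algebra R B] [Algebra R B']
    [Algebra A B] [Algebra A B'] [IsScalarTower R A B] [IsScalarTower R A B'] (x : B →ₐ[A] B') : sp R B' ⟶ sp R B :=
  pt (x.restrictScalars R)

theorem ptR_comp {A B B' B'' : Type u} [CommRing A] [CommRing B] [CommRing B'] [CommRing B''] [Algebra R A] [Algebra R B]
    [Algebra R B'] [Algebra R B''] [Algebra A B] [Algebra A B'] [Algebra A B''] [IsScalarTower R A B]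
    [IsScalarTower R A B'] [IsScalarTower R A B''] (x : B →ₐ[A] B') (y : B' →ₐ[A] B'') :
    ptR R (y.comp x) = ptR R y ≫ ptR R x := by
  rw [ptR, ← pt_comp]; rfl

/-- a chart of `H` over the `R`-algebra `A` by the diagonalisable group with characters `M` -/
structure Chart (H : Over (Spec (CommRingCat.of R))) [GrpObj H] (A : Type u) [CommRing A] [Algebra R A]
    (M : Type) [CommGroup M] where
  /-- the universal point -/
  χ : sp R (MonoidAlgebra A M) ⟶ H
  surj : ∀ (B : Type u) [CommRing B] [Algebra R B] [Algebra A B] [IsScalarTower R A B] (h : sp R B ⟶ H),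
    ∃ x : MonoidAlgebra A M →ₐ[A] B, ptR R x ≫ χ = h
  inj : ∀ (B : Type u) [CommRing B] [Algebra R B] [Algebra A B] [IsScalarTower R A B]
    (x y : MonoidAlgebra A M →ₐ[A] B), ptR R x ≫ χ = ptR R y ≫ χ → x = y
  mul : ∀ (B : Type u) [CommRing B] [Algebra R B] [Algebra A B] [IsScalarTower R A B]
    (x y : MonoidAlgebra A M →ₐ[A] B), ptR R (conv x y) ≫ χ = (ptR R x ≫ χ) * (ptR R y ≫ χ)

variable {H G : Over (Spec (CommRingCat.of R))} [GrpObj H] [GrpObj G] (J : Ideal R)
variable {A : Type u} [CommRing A] [Algebra R A] {M : Type} [CommGroup M]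

theorem Chart.one (c : Chart H A M) : ptR R (aug A M) ≫ c.χ = 1 := by
  have h := c.mul A (aug A M) (aug A M)
  rw [show conv (aug A M) (aug A M) = aug A M from algHom_ext_single fun m => by simp [aug]] at h
  exact left_eq_mul.mp h

theorem cancel_val {P : Type u} [CommRing P] [Algebra R P] [Algebra A P] [IsScalarTower R A P] (J' : Ideal P)
    (ε : P →ₐ[A] A) (hJ' : J' ^ 2 = ⊥) {X : Over (Spec (CommRingCat.of R))} {g h : sp R (thick A J') ⟶ X}
    (H' : ptR R (thick A J').val ≫ g = ptR R (thick A J').val ≫ h) : g = h := by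
  apply Over.OverMorphism.ext
  refine hom_ext_of_injective (thick A J').val.toRingHom Subtype.val_injective (surjective_comap_thick ε hJ') _ _ ?_
  have e := congrArg CommaMorphism.left H'
  simp only [Over.comp_left, ptR, pt_left] at e
  exact e

variable (u v : H ⟶ G)

/-- the cocycle `v / u` -/
def Chart.d (c : Chart H A M) : sp R (MonoidAlgebra A M) ⟶ G := (c.χ ≫ v) * (c.χ ≫ u)⁻¹

/-- `a` is the integral of the cocycle -/
def IsInt (hJ : J ^ 2 = ⊥) (c : Chart H A M) (a : sp R A ⟶ G) : Prop :=
  ∃ g : sp R (Cs J A M) ⟶ G, ptR R (Cs J A M).val ≫ g = c.d u v ∧ a = ptR R (intC A M hJ) ≫ g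

variable (hJ : J ^ 2 = ⊥)
  (hmod : ∀ (B : Type u) [CommRing B] [Algebra R B], (∀ r ∈ J, algebraMap R B r = 0) →
    ∀ h : sp R B ⟶ H, h ≫ u = h ≫ v)

include hmod in
theorem d_mod (c : Chart H A M) :
    pt (Ideal.Quotient.mkₐ R (JP J A M)) ≫ c.d u v = 1 := by
  rw [Chart.d, MonObj.comp_mul, GrpObj.comp_inv, ← Category.assoc, ← Category.assoc]
  rw [hmod _ (fun r hr => by
    rw [IsScalarTower.algebraMap_apply R (MonoidAlgebra A M) (MonoidAlgebra A M ⧸ JP J A M),
      Ideal.Quotient.algebraMap_eq, Ideal.Quotient.eq_zero_iff_mem]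
    exact Ideal.mem_map_of_mem _ hr) (pt (Ideal.Quotient.mkₐ R (JP J A M)) ≫ c.χ)]
  exact mul_inv_cancel _

/-- `a` is the integral of the point `d` -/
def IsIntPt (d : sp R (MonoidAlgebra A M) ⟶ G) (a : sp R A ⟶ G) : Prop :=
  ∃ g : sp R (Cs J A M) ⟶ G, ptR R (Cs J A M).val ≫ g = d ∧ a = ptR R (intC A M hJ) ≫ g

/-- The integral exists when the unit section lands in an affine open. -/
theorem exists_isIntPt (d : sp R (MonoidAlgebra A M) ⟶ G) (hd : pt (Ideal.Quotient.mkₐ R (JP J A M)) ≫ d = 1)
    {W : G.left.Opens} (hW : IsAffineOpen W)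
    (hr : Set.range (1 : sp R A ⟶ G).left ⊆ W) : ∃ a, IsIntPt J hJ d a := by
  let q := Ideal.Quotient.mkₐ R (JP J A M)
  let k : A →ₐ[R] (MonoidAlgebra A M ⧸ JP J A M) := q.comp (IsScalarTower.toAlgHom R A (MonoidAlgebra A M))
  have hq : pt q ≫ d = pt k ≫ (1 : sp R A ⟶ G) := by rw [hd, MonObj.comp_one]
  have hrd : Set.range d.left ⊆ W := by
    rintro _ ⟨z, rfl⟩
    obtain ⟨z', rfl⟩ : z ∈ Set.range (pt q).left := by
      rw [pt_left]
      have hle : JP J A M ≤ (z : PrimeSpectrum (MonoidAlgebra A M)).asIdeal := fun r hr => by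
        refine (z : PrimeSpectrum (MonoidAlgebra A M)).isPrime.mem_of_pow_mem 2 ?_
        have : r ^ 2 ∈ JP J A M ^ 2 := Ideal.pow_mem_pow hr 2
        rw [sq_map J hJ, Ideal.mem_bot] at this
        rw [this]
        exact zero_mem _
      have h1 : Set.range (PrimeSpectrum.comap q.toRingHom) = PrimeSpectrum.zeroLocus (JP J A M : Set (MonoidAlgebra A M)) := by
        show Set.range (PrimeSpectrum.comap (Ideal.Quotient.mk (JP J A M))) = _
        rw [range_comap_of_surjective _ _ Ideal.Quotient.mk_surjective, Ideal.mk_ker]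
      exact h1.ge hle
    rw [← Scheme.Hom.comp_apply, ← Over.comp_left, hq]
    exact hr ⟨(pt k).left z', rfl⟩
  let l := IsOpenImmersion.lift hW.fromSpec d.left (hrd.trans hW.range_fromSpec.ge)
  let le := IsOpenImmersion.lift hW.fromSpec (1 : sp R A ⟶ G).left (hr.trans hW.range_fromSpec.ge)
  let φ := Spec.preimage l
  let φe := Spec.preimage le
  have hφ : φ ≫ CommRingCat.ofHom q.toRingHom = φe ≫ CommRingCat.ofHom k.toRingHom := by
    apply Spec.map_injective
    rw [Spec.map_comp, Spec.map_comp, Spec.map_preimage, Spec.map_preimage, ← cancel_mono hW.fromSpec]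
    simp only [Category.assoc, l, le, IsOpenImmersion.lift_fac]
    have e := congrArg CommaMorphism.left hq
    simp only [Over.comp_left, pt_left] at e
    exact e
  let φ' : Γ(G.left, W) →+* Cs J A M := φ.hom.codRestrict (Cs J A M).toSubring fun x => by
    refine ⟨φe.hom x, ?_⟩
    rw [← Ideal.Quotient.eq]
    exact congrArg (fun f => f.hom x) hφ
  have hfac : Spec.map (CommRingCat.ofHom (Cs J A M).val.toRingHom) ≫ Spec.map (CommRingCat.ofHom φ') ≫ hW.fromSpec =
      d.left := by
    rw [← Spec.map_comp_assoc]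
    rw [show CommRingCat.ofHom φ' ≫ CommRingCat.ofHom (Cs J A M).val.toRingHom = φ from rfl, Spec.map_preimage,
      IsOpenImmersion.lift_fac]
  let g : sp R (Cs J A M) ⟶ G := Over.homMk (Spec.map (CommRingCat.ofHom φ') ≫ hW.fromSpec) (by
    refine hom_ext_of_injective (Cs J A M).val.toRingHom Subtype.val_injective
      (surjective_comap_thick (aug A M) (sq_map J hJ)) _ _ ?_
    rw [← Category.assoc, hfac]
    refine (Over.w d).trans ?_
    show Spec.map _ = Spec.map _ ≫ Spec.map _
    rw [← Spec.map_comp]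
    rfl)
  refine ⟨ptR R (intC A M hJ) ≫ g, g, ?_, rfl⟩
  apply Over.OverMorphism.ext
  simp only [Over.comp_left, ptR, pt_left]
  exact hfac

include hmod in
/-- The integral exists when the unit section lands in an affine open. -/
theorem exists_isInt (c : Chart H A M) {W : G.left.Opens} (hW : IsAffineOpen W)
    (hr : Set.range (1 : sp R A ⟶ G).left ⊆ W) : ∃ a, IsInt J u v hJ c a :=
  exists_isIntPt J hJ (c.d u v) (d_mod J u v hmod c) hW hr

theorem IsInt.unique {c : Chart H A M} {a b : sp R A ⟶ G} (ha : IsInt J u v hJ c a) (hb : IsInt J u v hJ c b) :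
    a = b := by
  obtain ⟨g, hg, rfl⟩ := ha
  obtain ⟨g', hg', rfl⟩ := hb
  rw [cancel_val (JP J A M) (aug A M) (sq_map J hJ) (hg.trans hg'.symm)]

variable [IsMonHom u] [IsMonHom v]

theorem IsInt.mod {c : Chart H A M} {a : sp R A ⟶ G} (ha : IsInt J u v hJ c a) (B : Type u) [CommRing B] [Algebra R B]
    (hB : ∀ r ∈ J, algebraMap R B r = 0) (f : A →ₐ[R] B) : pt f ≫ a = 1 := by
  obtain ⟨g, hg, rfl⟩ := ha
  have hz : ∀ x ∈ J.map (algebraMap R A), f x = 0 := by
    intro x hx
    have : J.map (algebraMap R A) ≤ RingHom.ker f := Ideal.map_le_iff_le_comap.mpr fun r hr => by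
      show f (algebraMap R A r) = 0
      rw [f.commutes, hB r hr]
    exact this hx
  have e : f.comp ((intC A M hJ).restrictScalars R) =
      f.comp (((aug A M).comp (Cs J A M).val).restrictScalars R) := by
    refine AlgHom.ext fun z => ?_
    obtain ⟨z, a, ha⟩ := z
    show f (z.coeff 1) = f (aug A M z)
    have h1 := hz _ (coeff_mem J A M ha 1)
    have h2 : aug A M (z - algebraMap A _ a) ∈ J.map (algebraMap R A) := by
      have := Ideal.mem_map_of_mem (aug A M).toRingHom ha
      have e1 : (aug A M).toRingHom.comp (algebraMap R (MonoidAlgebra A M)) = algebraMap R A :=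
        ((aug A M).restrictScalars R).comp_algebraMap
      rw [Ideal.map_map, e1] at this
      exact this
    have h2' := hz _ h2
    simp only [MonoidAlgebra.coeff_sub, MonoidAlgebra.coe_algebraMap, Function.comp_apply, MonoidAlgebra.coeff_single,
      Algebra.algebraMap_self, RingHom.id_apply, Finsupp.sub_apply, Finsupp.single_eq_same, map_sub, sub_eq_zero] at h1
    rw [map_sub, AlgHom.commutes, map_sub, sub_eq_zero] at h2'
    exact h1.trans h2'.symm
  calc pt f ≫ ptR R (intC A M hJ) ≫ g = (pt f ≫ pt ((intC A M hJ).restrictScalars R)) ≫ g := (Category.assoc _ _ _).symm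
    _ = pt (f.comp (((aug A M).comp (Cs J A M).val).restrictScalars R)) ≫ g := by rw [← pt_comp, e]
    _ = pt f ≫ ptR R (aug A M) ≫ ptR R (Cs J A M).val ≫ g := by
      rw [pt_comp, Category.assoc, show (((aug A M).comp (Cs J A M).val).restrictScalars R) =
        ((aug A M).restrictScalars R).comp ((Cs J A M).val.restrictScalars R) from rfl, pt_comp, Category.assoc]
    _ = 1 := by
      rw [hg, Chart.d, MonObj.comp_mul, GrpObj.comp_inv, ← Category.assoc, ← Category.assoc, c.one, one_comp',
        one_comp', inv_one, _root_.mul_one, MonObj.comp_one]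

end Groth.Agent.ConjInt
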