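import Groth.Agent.ConjInt.BaseChange
import Groth.Agent.FSmooth.Criterion

/-!
Lifting a conjugating point along a nilpotent ideal.
-/

universe u

open CategoryTheory Limits MonoidalCategory CartesianMonoidalCategory MonObj GrpObj AlgebraicGeometry
open CoactBr Groth.Agent.DiagGrp Groth.Agent.DiagAction

set_option backward.isDefEq.respectTransparency false

noncomputable section

namespace Groth.Agent.ConjInt

variable {R : Type u} [CommRing R] {H G : Over (Spec (CommRingCat.of R))} [GrpObj H] [GrpObj G]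

/-- `x` conjugates `u` to `v` on points over `A` -/
def IsConjPt (u v : H ⟶ G) {A : Type u} [CommRing A] [Algebra R A] (x : sp R A ⟶ G) : Prop :=
  ∀ (B : Type u) [CommRing B] [Algebra R B] (f : A →ₐ[R] B) (h : sp R B ⟶ H),
    h ≫ v = (pt f ≫ x) * (h ≫ u) * (pt f ≫ x)⁻¹

theorem toUnit_left {S : Scheme.{u}} (Z : Over S) : (toUnit Z).left = Z.hom :=
  (Category.comp_id _).symm.trans (Over.w (toUnit Z))

theorem exists_step (hH : TwC.Locally (Spec (CommRingCat.of R)) TwC.Topology.fpqc (fun S' f => ∃ (M : Type) (_ : AddCommGroup M), Nonempty (Grp.mk (Red.bc f H) ≅ Grp.mk (Red.DS S' M))))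
    (hG : MoreMor.IsFormallySmoothHom G.hom) (u v : H ⟶ G) [IsMonHom u] [IsMonHom v]
    {A₁ A₂ : Type u} [CommRing A₁] [CommRing A₂] [Algebra R A₁] [Algebra R A₂] (q : A₂ →ₐ[R] A₁)
    (hq : Function.Surjective q) (hsq : RingHom.ker q.toRingHom ^ 2 = ⊥) (x : sp R A₁ ⟶ G) (hx : IsConjPt u v x) :
    ∃ x₂ : sp R A₂ ⟶ G, pt q ≫ x₂ = x ∧ IsConjPt u v x₂ := by
  set I : Ideal A₂ := RingHom.ker q.toRingHom with hI
  let eI : (A₂ ⧸ I) ≃ₐ[R] A₁ := Ideal.quotientKerAlgEquivOfSurjective hq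
  obtain ⟨l, hla, hlb⟩ := hG A₂ I hsq ((pt eI.symm.toAlgHom ≫ x).left)
    (Spec.map (CommRingCat.ofHom (algebraMap R A₂))) (by
      rw [Over.w, ← Spec.map_comp, ← CommRingCat.ofHom_comp]
      show _ = Spec.map (CommRingCat.ofHom (algebraMap R (A₂ ⧸ I)))
      rfl)
  let x' : sp R A₂ ⟶ G := Over.homMk l hlb
  have hx' : pt q ≫ x' = x := by
    have e1 : pt (Ideal.Quotient.mkₐ R I) ≫ x' = pt eI.symm.toAlgHom ≫ x :=
      Over.OverMorphism.ext hla
    have e2 := congrArg (pt eI.toAlgHom ≫ ·) e1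
    simp only [← Category.assoc, ← pt_comp] at e2
    rw [show eI.toAlgHom.comp (Ideal.Quotient.mkₐ R I) = q from AlgHom.ext fun a => rfl,
      show eI.toAlgHom.comp eI.symm.toAlgHom = AlgHom.id R A₁ from AlgHom.ext fun a => eI.apply_symm_apply a,
      pt_id, Category.id_comp] at e2
    exact e2
  let H₂ := Red.bc (str R A₂) H
  let G₂ := Red.bc (str R A₂) G
  let u₂ : H₂ ⟶ G₂ := (Over.pullback (str R A₂)).map u
  let v₂ : H₂ ⟶ G₂ := (Over.pullback (str R A₂)).map v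
  let e : 𝟙_ (Over (Spec (CommRingCat.of A₂))) ⟶ sp A₂ A₂ := Over.homMk (𝟙 _) (by
    show 𝟙 _ ≫ Spec.map (CommRingCat.ofHom (algebraMap A₂ A₂)) = 𝟙 _
    simp)
  have he : toUnit (sp A₂ A₂) ≫ e = 𝟙 _ := by
    apply Over.OverMorphism.ext
    rw [Over.comp_left, toUnit_left]
    show Spec.map (CommRingCat.ofHom (algebraMap A₂ A₂)) ≫ 𝟙 _ = 𝟙 _
    simp
  let y₀ : 𝟙_ (Over (Spec (CommRingCat.of A₂))) ⟶ G₂ := e ≫ up x'
  have hy₀ : ∀ (B : Type u) [CommRing B] [Algebra R B] [Algebra A₂ B] [IsScalarTower R A₂ B]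
      (t : 𝟙_ (Over (Spec (CommRingCat.of A₂))) ⟶ G₂), down (toUnit (sp A₂ B) ≫ t) =
        pt (IsScalarTower.toAlgHom R A₂ B) ≫ down (toUnit (sp A₂ A₂) ≫ t) := fun B _ _ _ _ t => by
    rw [← toUnit_unique (pt (Algebra.ofId A₂ B) ≫ toUnit (sp A₂ A₂)) (toUnit (sp A₂ B)), Category.assoc,
      DiagGrp.down_comp]
    rfl
  have hdx : down (toUnit (sp A₂ A₂) ≫ y₀) = x' := by
    simp only [y₀, ← Category.assoc, he, Category.id_comp, down_up]
  let w : H₂ ⟶ G₂ := (toUnit H₂ ≫ y₀) * u₂ * (toUnit H₂ ≫ y₀)⁻¹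
  haveI : IsMonHom u₂ := inferInstance
  haveI : IsMonHom v₂ := inferInstance
  haveI : IsMonHom w := isMonHom_conj u₂ y₀
  have hdinv : ∀ {B : Type u} [CommRing B] [Algebra R B] [Algebra A₂ B] [IsScalarTower R A₂ B]
      (p : sp A₂ B ⟶ G₂), down p⁻¹ = (down p)⁻¹ := fun p => by
    refine eq_inv_of_mul_eq_one_left ?_
    rw [← down_mul, inv_mul_cancel, down_one]
  have hdw : ∀ (B : Type u) [CommRing B] [Algebra R B] [Algebra A₂ B] [IsScalarTower R A₂ B] (h : sp A₂ B ⟶ H₂),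
      down (h ≫ w) = (pt (IsScalarTower.toAlgHom R A₂ B) ≫ x') * (down h ≫ u) *
        (pt (IsScalarTower.toAlgHom R A₂ B) ≫ x')⁻¹ := fun B _ _ _ _ h => by
    simp only [w, comp_conj]
    rw [down_mul, down_mul, hdinv, hy₀, hdx, down_comp_map]
  obtain ⟨g, hg1, hgc⟩ := exists_conj (H := H₂) (G := G₂) (J := I) hsq
    (locally_bc (str R A₂) (isAffineOpen_top _) H hH) w v₂ (fun B _ _ hB h => by
      letI : Algebra R B := Algebra.compHom B (algebraMap R A₂)
      haveI : IsScalarTower R A₂ B := IsScalarTower.of_algebraMap_eq fun _ => rfl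
      let fb : A₁ →ₐ[R] B :=
        (Ideal.Quotient.liftₐ I (IsScalarTower.toAlgHom R A₂ B) hB).comp eI.symm.toAlgHom
      have hfb : fb.comp q = IsScalarTower.toAlgHom R A₂ B := AlgHom.ext fun a => by
        show Ideal.Quotient.liftₐ I (IsScalarTower.toAlgHom R A₂ B) hB (eI.symm (q a)) = _
        rw [show eI.symm (q a) = Ideal.Quotient.mkₐ R I a from eI.injective ((eI.apply_symm_apply _).trans rfl)]
        rfl
      apply DiagGrp.down_injective (k := R)
      rw [hdw, down_comp_map, hx B fb (down h), ← hfb, pt_comp, Category.assoc, hx'])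
  refine ⟨down (toUnit (sp A₂ A₂) ≫ (g * y₀)), ?_, fun B _ _ f h => ?_⟩
  · letI : Algebra A₂ A₁ := q.toRingHom.toAlgebra
    haveI : IsScalarTower R A₂ A₁ := IsScalarTower.of_algebraMap_eq fun r => (q.commutes r).symm
    let p : sp A₂ A₁ ⟶ Over.mk (Spec.map (CommRingCat.ofHom (Ideal.Quotient.mk I))) :=
      Over.homMk (Spec.map (CommRingCat.ofHom eI.toRingHom)) (by
        show Spec.map _ ≫ Spec.map _ = Spec.map _
        rw [← Spec.map_comp, ← CommRingCat.ofHom_comp]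
        rfl)
    have h1 : toUnit (sp A₂ A₁) ≫ g = 1 := by
      rw [← toUnit_unique (p ≫ toUnit _) (toUnit (sp A₂ A₁)), Category.assoc, hg1, MonObj.comp_one]
    rw [show q = IsScalarTower.toAlgHom R A₂ A₁ from AlgHom.ext fun _ => rfl, ← hy₀, MonObj.comp_mul, h1,
      _root_.one_mul, hy₀, hdx]
    exact hx'
  · letI : Algebra A₂ B := f.toRingHom.toAlgebra
    haveI : IsScalarTower R A₂ B := IsScalarTower.of_algebraMap_eq fun r => (f.commutes r).symm
    have hf : f = IsScalarTower.toAlgHom R A₂ B := AlgHom.ext fun _ => rfl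
    have key := congrArg down (hgc _ (up (K := A₂) h))
    rw [down_comp_map, down_up, down_mul, down_mul, hdinv, hdw, down_up, ← hdx, ← hy₀] at key
    rw [key, hf, ← hy₀, MonObj.comp_mul, down_mul]
    group

theorem sq_ker_factor {I₁ I₂ : Ideal R} (h : I₂ ≤ I₁) (h2 : I₁ ^ 2 ≤ I₂) :
    RingHom.ker (Ideal.Quotient.factorₐ R h).toRingHom ^ 2 = ⊥ := by
  show RingHom.ker (Ideal.Quotient.factor h) ^ 2 = ⊥
  rw [Ideal.Quotient.factor_ker h, ← Ideal.map_pow, Ideal.map_eq_bot_iff_le_ker, Ideal.mk_ker]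
  exact h2

theorem exists_conj_nilpotent (J : Ideal R) (hJ : IsNilpotent J)
    (hH : TwC.Locally (Spec (CommRingCat.of R)) TwC.Topology.fpqc (fun S' f => ∃ (M : Type) (_ : AddCommGroup M), Nonempty (Grp.mk (Red.bc f H) ≅ Grp.mk (Red.DS S' M))))
    (hG : MoreMor.IsFormallySmoothHom G.hom) (u v : H ⟶ G) [IsMonHom u] [IsMonHom v]
    (g₀ : (Over.mk (Spec.map (CommRingCat.ofHom (Ideal.Quotient.mk J))) : Over (Spec (CommRingCat.of R))) ⟶ G)
    (h0 : ∀ (X : Over (Spec (CommRingCat.of R))) (p : X ⟶ (Over.mk (Spec.map (CommRingCat.ofHom (Ideal.Quotient.mk J))) : Over (Spec (CommRingCat.of R)))) (h : X ⟶ H), h ≫ v = (p ≫ g₀) * (h ≫ u) * (p ≫ g₀)⁻¹) :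
    ∃ g : 𝟙_ (Over (Spec (CommRingCat.of R))) ⟶ G,
      toUnit (Over.mk (Spec.map (CommRingCat.ofHom (Ideal.Quotient.mk J))) : Over (Spec (CommRingCat.of R))) ≫ g = g₀ ∧
      ∀ (X : Over (Spec (CommRingCat.of R))) (h : X ⟶ H), h ≫ v = (toUnit X ≫ g) * (h ≫ u) * (toUnit X ≫ g)⁻¹ := by
  let i₀ : sp R (R ⧸ J) ⟶ (Over.mk (Spec.map (CommRingCat.ofHom (Ideal.Quotient.mk J))) : Over (Spec (CommRingCat.of R))) :=
    Over.homMk (𝟙 _) (Category.id_comp _)
  have hle : ∀ n, J ^ (n + 1) ≤ J := fun n => Ideal.pow_le_self (Nat.succ_ne_zero n)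
  have key : ∀ n, ∃ x : sp R (R ⧸ J ^ (n + 1)) ⟶ G,
      pt (Ideal.Quotient.factorₐ R (hle n)) ≫ x = i₀ ≫ g₀ ∧ IsConjPt u v x := by
    intro n
    induction n with
    | zero =>
      have h1 : J ≤ J ^ (0 + 1) := by rw [zero_add, pow_one]
      refine ⟨pt (Ideal.Quotient.factorₐ R h1) ≫ i₀ ≫ g₀, ?_, fun B _ _ f h => ?_⟩
      · rw [← Category.assoc, ← pt_comp, show (Ideal.Quotient.factorₐ R (hle 0)).comp (Ideal.Quotient.factorₐ R h1) =
          AlgHom.id R _ from AlgHom.ext fun z => by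
            obtain ⟨z, rfl⟩ := Ideal.Quotient.mk_surjective z
            rfl, pt_id, Category.id_comp]
      · rw [← Category.assoc, ← Category.assoc]
        exact h0 _ _ h
    | succ n ih =>
      obtain ⟨x, hx1, hx2⟩ := ih
      have h12 : J ^ (n + 1 + 1) ≤ J ^ (n + 1) := Ideal.pow_le_pow_right (Nat.le_succ _)
      obtain ⟨x₂, hq, hx₂⟩ := exists_step hH hG u v (Ideal.Quotient.factorₐ R h12)
        (Ideal.Quotient.factor_surjective h12)
        (sq_ker_factor h12 (by rw [← pow_mul]; exact Ideal.pow_le_pow_right (by omega))) x hx2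
      refine ⟨x₂, ?_, hx₂⟩
      rw [← hx1, ← hq, ← Category.assoc, ← pt_comp]
      congr 2
      exact AlgHom.ext fun z => by obtain ⟨z, rfl⟩ := Ideal.Quotient.mk_surjective z; rfl
  obtain ⟨N, hN⟩ := hJ
  obtain ⟨x, hx1, hx2⟩ := key N
  have hbot : J ^ (N + 1) = ⊥ := by rw [pow_succ, hN, zero_mul]; rfl
  let eN : R ⧸ J ^ (N + 1) →ₐ[R] R := Ideal.Quotient.liftₐ _ (AlgHom.id R R) fun a ha => by
    rw [hbot, Ideal.mem_bot] at ha; exact ha
  let eu : 𝟙_ (Over (Spec (CommRingCat.of R))) ⟶ sp R R := Over.homMk (𝟙 _) (by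
    show 𝟙 _ ≫ Spec.map (CommRingCat.ofHom (algebraMap R R)) = 𝟙 _
    simp)
  have heu : toUnit (sp R R) ≫ eu = 𝟙 _ := by
    apply Over.OverMorphism.ext
    rw [Over.comp_left, toUnit_left]
    show Spec.map (CommRingCat.ofHom (algebraMap R R)) ≫ 𝟙 _ = 𝟙 _
    simp
  let g : 𝟙_ (Over (Spec (CommRingCat.of R))) ⟶ G := eu ≫ pt eN ≫ x
  have hg : ∀ (D : Type u) [CommRing D] [Algebra R D],
      toUnit (sp R D) ≫ g = pt ((Algebra.ofId R D).comp eN) ≫ x := fun D _ _ => by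
    rw [← toUnit_unique (pt (Algebra.ofId R D) ≫ toUnit (sp R R)) (toUnit (sp R D)), pt_comp]
    simp only [g, Category.assoc]
    rw [← Category.assoc (toUnit (sp R R)), heu, Category.id_comp]
  refine ⟨g, ?_, fun X h => affine_point_ext _ _ fun D _ _ z => ?_⟩
  · haveI : IsIso i₀ := by
      refine ⟨Over.homMk (𝟙 _) (Category.id_comp _), ?_, ?_⟩ <;>
        exact Over.OverMorphism.ext (Category.id_comp _)
    rw [← cancel_epi i₀, ← Category.assoc, toUnit_unique (i₀ ≫ toUnit _) (toUnit _), hg, ← hx1]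
    congr 2
    exact AlgHom.ext fun z => by obtain ⟨z, rfl⟩ := Ideal.Quotient.mk_surjective z; rfl
  · rw [MonObj.comp_mul, MonObj.comp_mul, GrpObj.comp_inv, ← Category.assoc z, ← Category.assoc z,
      ← Category.assoc z, toUnit_unique (z ≫ toUnit X) (toUnit _), hg]
    exact hx2 D _ (z ≫ h)

end Groth.Agent.ConjInt
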