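import Groth.Agent.ConjInt.Lift
import Groth.Agent.ConjInt.Nilp

/-!
Subgroups of multiplicative type which are conjugate modulo a nilpotent ideal.
-/

universe u

open CategoryTheory Limits MonoidalCategory CartesianMonoidalCategory MonObj GrpObj AlgebraicGeometry
open CoactBr Groth.Agent.DiagGrp Groth.Agent.DiagAction

set_option backward.isDefEq.respectTransparency false

noncomputable section

namespace Groth.Agent.ConjInt

variable {R : Type u} [CommRing R] {J : Ideal R}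

/-- the closed subscheme cut out by `J` -/
abbrev modJ (J : Ideal R) : Over (Spec (CommRingCat.of R)) :=
  Over.mk (Spec.map (CommRingCat.ofHom (Ideal.Quotient.mk J)))

/-- a point over a ring killed by `J` lies in the closed subscheme -/
def toModJ {B : Type u} [CommRing B] [Algebra R B] (hB : ∀ r ∈ J, algebraMap R B r = 0) : sp R B ⟶ modJ J :=
  Over.homMk (Spec.map (CommRingCat.ofHom (Ideal.Quotient.lift J (algebraMap R B) hB))) (by
    show Spec.map _ ≫ Spec.map _ = Spec.map _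
    rw [← Spec.map_comp, ← CommRingCat.ofHom_comp]
    rfl)

theorem hom_modJ_ext {X : Over (Spec (CommRingCat.of R))} (a b : X ⟶ modJ J) : a = b := by
  haveI : IsClosedImmersion (Spec.map (CommRingCat.ofHom (Ideal.Quotient.mk J))) :=
    IsClosedImmersion.spec_of_surjective _ Ideal.Quotient.mk_surjective
  apply Over.OverMorphism.ext
  exact (cancel_mono (Spec.map (CommRingCat.ofHom (Ideal.Quotient.mk J)))).mp ((Over.w a).trans (Over.w b).symm)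

theorem killed_of_toModJ {B : Type u} [CommRing B] [Algebra R B] (z : sp R B ⟶ modJ J) :
    ∀ r ∈ J, algebraMap R B r = 0 := fun r hr => by
  have e' : CommRingCat.ofHom (Ideal.Quotient.mk J) ≫ Spec.preimage z.left = CommRingCat.ofHom (algebraMap R B) :=
    Spec.map_injective (by rw [Spec.map_comp, Spec.map_preimage]; exact Over.w z)
  have e2 := congrArg (fun s => s.hom r) e'
  simp only [CommRingCat.hom_comp, CommRingCat.hom_ofHom, RingHom.comp_apply,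
    Ideal.Quotient.eq_zero_iff_mem.mpr hr, map_zero] at e2
  exact e2.symm

variable {G H H' : Over (Spec (CommRingCat.of R))} [GrpObj G] [GrpObj H] [GrpObj H']

/-- the family given by conjugation into a subgroup -/
theorem exists_modFam (i : H ⟶ G) [IsMonHom i] (i' : H' ⟶ G) [IsMonHom i'] [Mono i'] (c : modJ J ⟶ G)
    (h0 : ∀ (X : Over (Spec (CommRingCat.of R))) (p : X ⟶ modJ J) (h : X ⟶ H),
      ∃ h' : X ⟶ H', (p ≫ c) * (h ≫ i) * (p ≫ c)⁻¹ = h' ≫ i') :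
    ∃ θ : ModFam J H H', ∀ (B : Type u) [CommRing B] [Algebra R B] (hB : ∀ r ∈ J, algebraMap R B r = 0)
      (h : sp R B ⟶ H), θ.f B hB h ≫ i' = (toModJ hB ≫ c) * (h ≫ i) * (toModJ hB ≫ c)⁻¹ := by
  have hall : ∀ (B : Type u) [CommRing B] [Algebra R B] (hB : ∀ r ∈ J, algebraMap R B r = 0) (h : sp R B ⟶ H),
      ∃ h' : sp R B ⟶ H', h' ≫ i' = (toModJ hB ≫ c) * (h ≫ i) * (toModJ hB ≫ c)⁻¹ := fun B _ _ hB h => by
    obtain ⟨h', e⟩ := h0 _ (toModJ hB) h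
    exact ⟨h', e.symm⟩
  choose f hf using hall
  refine ⟨⟨f, fun {B B'} _ _ _ _ hB hB' k h => ?_, fun {B} _ _ hB h k => ?_⟩, hf⟩
  · rw [← cancel_mono i', Category.assoc, hf, hf, MonObj.comp_mul, MonObj.comp_mul, GrpObj.comp_inv,
      ← Category.assoc, ← Category.assoc, hom_modJ_ext (pt k ≫ toModJ hB) (toModJ hB')]
  · rw [← cancel_mono i', hf, mul_comp', mul_comp', hf, hf]
    group

/-- the isomorphism of two subgroups of multiplicative type conjugate modulo `J` -/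
theorem exists_iso_lift (hJ : IsNilpotent J)
    (hH : TwC.Locally (Spec (CommRingCat.of R)) TwC.Topology.fpqc (fun S' f => ∃ (M : Type) (_ : AddCommGroup M), Nonempty (Grp.mk (Red.bc f H) ≅ Grp.mk (Red.DS S' M))))
    (hH' : TwC.Locally (Spec (CommRingCat.of R)) TwC.Topology.fpqc (fun S' f => ∃ (M : Type) (_ : AddCommGroup M), Nonempty (Grp.mk (Red.bc f H') ≅ Grp.mk (Red.DS S' M))))
    (i : H ⟶ G) [IsMonHom i] [IsImmersion i.left] (i' : H' ⟶ G) [IsMonHom i'] [IsImmersion i'.left]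
    (c : modJ J ⟶ G)
    (h0 : ∀ (X : Over (Spec (CommRingCat.of R))) (p : X ⟶ modJ J),
      (∀ h : X ⟶ H, ∃ h' : X ⟶ H', (p ≫ c) * (h ≫ i) * (p ≫ c)⁻¹ = h' ≫ i') ∧
      (∀ h' : X ⟶ H', ∃ h : X ⟶ H, (p ≫ c)⁻¹ * (h' ≫ i') * (p ≫ c) = h ≫ i)) :
    ∃ φ : H ≅ H', IsMonHom φ.hom ∧ ∀ (X : Over (Spec (CommRingCat.of R))) (p : X ⟶ modJ J) (h : X ⟶ H),
      h ≫ φ.hom ≫ i' = (p ≫ c) * (h ≫ i) * (p ≫ c)⁻¹ := by
  haveI : Mono i := Over.mono_of_mono_left i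
  haveI : Mono i' := Over.mono_of_mono_left i'
  obtain ⟨θ, hθ⟩ := exists_modFam i i' c fun X p h => (h0 X p).1 h
  obtain ⟨θ', hθ'⟩ := exists_modFam i' i c⁻¹ fun X p h => by
    obtain ⟨x, hx⟩ := (h0 X p).2 h
    exact ⟨x, by rw [GrpObj.comp_inv, _root_.inv_inv]; exact hx⟩
  obtain ⟨a, ⟨ha, ha'⟩, -⟩ := existsUnique_lift_hom hJ θ hH hH'
  obtain ⟨b, ⟨hb, hb'⟩, -⟩ := existsUnique_lift_hom hJ θ' hH' hH
  haveI := ha
  haveI := hb
  have hab : a ≫ b = 𝟙 H := by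
    let θ₁ : ModFam J H H := ⟨fun B _ _ _ h => h, fun _ _ _ _ => rfl, fun _ _ _ => rfl⟩
    obtain ⟨e, -, he⟩ := existsUnique_lift_hom hJ θ₁ hH hH
    refine (he (a ≫ b) ⟨inferInstance, fun B _ _ hB h => ?_⟩).trans
      (he (𝟙 H) ⟨inferInstance, fun B _ _ hB h => Category.comp_id h⟩).symm
    show h ≫ a ≫ b = h
    rw [← Category.assoc, ha' B hB, hb' B hB, ← cancel_mono i, hθ', hθ, GrpObj.comp_inv]
    group
  have hba : b ≫ a = 𝟙 H' := by
    let θ₁ : ModFam J H' H' := ⟨fun B _ _ _ h => h, fun _ _ _ _ => rfl, fun _ _ _ => rfl⟩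
    obtain ⟨e, -, he⟩ := existsUnique_lift_hom hJ θ₁ hH' hH'
    refine (he (b ≫ a) ⟨inferInstance, fun B _ _ hB h => ?_⟩).trans
      (he (𝟙 H') ⟨inferInstance, fun B _ _ hB h => Category.comp_id h⟩).symm
    show h ≫ b ≫ a = h
    rw [← Category.assoc, hb' B hB, ha' B hB, ← cancel_mono i', hθ, hθ', GrpObj.comp_inv]
    group
  refine ⟨⟨a, b, hab, hba⟩, ha, fun X p h => affine_point_ext _ _ fun D _ _ z => ?_⟩
  have hB := killed_of_toModJ (z ≫ p)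
  rw [MonObj.comp_mul, MonObj.comp_mul, GrpObj.comp_inv, ← Category.assoc z, ← Category.assoc z,
    ← Category.assoc z, hom_modJ_ext (z ≫ p) (toModJ hB)]
  show (z ≫ h) ≫ a ≫ i' = _
  rw [← Category.assoc (z ≫ h), ha' D hB, hθ]

theorem conjBy_of_conj (i : H ⟶ G) (i' : H' ⟶ G) (φ : H ≅ H') (g : 𝟙_ (Over (Spec (CommRingCat.of R))) ⟶ G)
    (hg : ∀ (X : Over (Spec (CommRingCat.of R))) (h : X ⟶ H),
      h ≫ φ.hom ≫ i' = (toUnit X ≫ g) * (h ≫ i) * (toUnit X ≫ g)⁻¹) : SGA3x.ConjBy i i' g := by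
  refine ⟨φ, ?_⟩
  have := hg H (𝟙 H)
  rw [Category.id_comp, Category.id_comp] at this
  exact this.symm

theorem subgroups_conj_squareZero (hJ : J ^ 2 = ⊥)
    (hH : TwC.Locally (Spec (CommRingCat.of R)) TwC.Topology.fpqc (fun S' f => ∃ (M : Type) (_ : AddCommGroup M), Nonempty (Grp.mk (Red.bc f H) ≅ Grp.mk (Red.DS S' M))))
    (hH' : TwC.Locally (Spec (CommRingCat.of R)) TwC.Topology.fpqc (fun S' f => ∃ (M : Type) (_ : AddCommGroup M), Nonempty (Grp.mk (Red.bc f H') ≅ Grp.mk (Red.DS S' M))))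
    (i : H ⟶ G) [IsMonHom i] [IsImmersion i.left] (i' : H' ⟶ G) [IsMonHom i'] [IsImmersion i'.left]
    (h0 : ∃ ψ : Red.bc (Spec.map (CommRingCat.ofHom (Ideal.Quotient.mk J))) H ≅ Red.bc (Spec.map (CommRingCat.ofHom (Ideal.Quotient.mk J))) H',
      ψ.hom ≫ (Over.pullback (Spec.map (CommRingCat.ofHom (Ideal.Quotient.mk J)))).map i' = (Over.pullback (Spec.map (CommRingCat.ofHom (Ideal.Quotient.mk J)))).map i) :
    ∃ g : 𝟙_ (Over (Spec (CommRingCat.of R))) ⟶ G, toUnit (modJ J) ≫ g = 1 ∧ SGA3x.ConjBy i i' g := by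
  obtain ⟨ψ, hψ⟩ := h0
  let q₀ := Spec.map (CommRingCat.ofHom (Ideal.Quotient.mk J))
  let v : ∀ {X : Over (Spec (CommRingCat.of R))}, (X ⟶ modJ J) → Over (Spec (CommRingCat.of (R ⧸ J))) :=
    fun {X} p => Over.mk p.left
  let e : ∀ {X : Over (Spec (CommRingCat.of R))} (p : X ⟶ modJ J), (Over.map q₀).obj (v p) ≅ X :=
    fun {X} p => Over.isoMk (Iso.refl _) ((Category.id_comp _).trans (Over.w p).symm)
  have hψ' := (Iso.eq_inv_comp ψ).mpr hψ
  have h0' : ∀ (X : Over (Spec (CommRingCat.of R))) (p : X ⟶ modJ J),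
      (∀ h : X ⟶ H, ∃ h' : X ⟶ H', (p ≫ (1 : modJ J ⟶ G)) * (h ≫ i) * (p ≫ (1 : modJ J ⟶ G))⁻¹ = h' ≫ i') ∧
      (∀ h' : X ⟶ H', ∃ h : X ⟶ H, (p ≫ (1 : modJ J ⟶ G))⁻¹ * (h' ≫ i') * (p ≫ (1 : modJ J ⟶ G)) = h ≫ i) := by
    intro X p
    simp only [MonObj.comp_one, inv_one, _root_.mul_one, _root_.one_mul]
    constructor <;> intro h
    · refine ⟨(e p).inv ≫ downP q₀ (upP q₀ ((e p).hom ≫ h) ≫ ψ.hom), ?_⟩
      rw [Category.assoc, show downP q₀ (upP q₀ ((e p).hom ≫ h) ≫ ψ.hom) ≫ i' =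
          downP q₀ ((upP q₀ ((e p).hom ≫ h) ≫ ψ.hom) ≫ (Over.pullback q₀).map i') from
          (Adjunction.homEquiv_naturality_right_symm _ _ _).symm,
        Category.assoc, hψ, show downP q₀ (upP q₀ ((e p).hom ≫ h) ≫ (Over.pullback q₀).map i) =
          downP q₀ (upP q₀ ((e p).hom ≫ h)) ≫ i from Adjunction.homEquiv_naturality_right_symm _ _ _,
        downP_upP, Category.assoc, Iso.inv_hom_id_assoc]
    · refine ⟨(e p).inv ≫ downP q₀ (upP q₀ ((e p).hom ≫ h) ≫ ψ.inv), ?_⟩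
      rw [Category.assoc, show downP q₀ (upP q₀ ((e p).hom ≫ h) ≫ ψ.inv) ≫ i =
          downP q₀ ((upP q₀ ((e p).hom ≫ h) ≫ ψ.inv) ≫ (Over.pullback q₀).map i) from
          (Adjunction.homEquiv_naturality_right_symm _ _ _).symm,
        Category.assoc, ← hψ', show downP q₀ (upP q₀ ((e p).hom ≫ h) ≫ (Over.pullback q₀).map i') =
          downP q₀ (upP q₀ ((e p).hom ≫ h)) ≫ i' from Adjunction.homEquiv_naturality_right_symm _ _ _,
        downP_upP, Category.assoc, Iso.inv_hom_id_assoc]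
  obtain ⟨φ, hφm, hφ⟩ := exists_iso_lift ⟨2, hJ⟩ hH hH' i i' (1 : modJ J ⟶ G) h0'
  haveI := hφm
  obtain ⟨g, hg, hgc⟩ := exists_conj hJ hH i (φ.hom ≫ i') fun B _ _ hB h => by
    rw [hφ _ (toModJ hB) h, MonObj.comp_one, inv_one, _root_.mul_one, _root_.one_mul]
  exact ⟨g, hg, conjBy_of_conj i i' φ g hgc⟩

theorem subgroups_conj_nilpotent (hJ : IsNilpotent J) (hG : MoreMor.IsFormallySmoothHom G.hom)
    (hH : TwC.Locally (Spec (CommRingCat.of R)) TwC.Topology.fpqc (fun S' f => ∃ (M : Type) (_ : AddCommGroup M), Nonempty (Grp.mk (Red.bc f H) ≅ Grp.mk (Red.DS S' M))))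
    (hH' : TwC.Locally (Spec (CommRingCat.of R)) TwC.Topology.fpqc (fun S' f => ∃ (M : Type) (_ : AddCommGroup M), Nonempty (Grp.mk (Red.bc f H') ≅ Grp.mk (Red.DS S' M))))
    (i : H ⟶ G) [IsMonHom i] [IsImmersion i.left] (i' : H' ⟶ G) [IsMonHom i'] [IsImmersion i'.left]
    (g₀ : modJ J ⟶ G)
    (h0 : ∀ (X : Over (Spec (CommRingCat.of R))) (p : X ⟶ modJ J),
      (∀ h : X ⟶ H, ∃ h' : X ⟶ H', (p ≫ g₀) * (h ≫ i) * (p ≫ g₀)⁻¹ = h' ≫ i') ∧
      (∀ h' : X ⟶ H', ∃ h : X ⟶ H, (p ≫ g₀)⁻¹ * (h' ≫ i') * (p ≫ g₀) = h ≫ i)) :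
    ∃ g : 𝟙_ (Over (Spec (CommRingCat.of R))) ⟶ G, toUnit (modJ J) ≫ g = g₀ ∧ SGA3x.ConjBy i i' g := by
  obtain ⟨φ, hφm, hφ⟩ := exists_iso_lift hJ hH hH' i i' g₀ h0
  haveI := hφm
  obtain ⟨g, hg, hgc⟩ := exists_conj_nilpotent J hJ hH hG i (φ.hom ≫ i') g₀ hφ
  exact ⟨g, hg, conjBy_of_conj i i' φ g hgc⟩

end Groth.Agent.ConjInt
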