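import Mathlib

/-!
The subalgebra `A + J'` of an `A`-algebra `A'`, for a square-zero ideal `J'`: linear retractions are multiplicative on
it, and `Spec A' ⟶ Spec (A + J')` is an epimorphism.
-/

universe u

open CategoryTheory AlgebraicGeometry

noncomputable section

namespace Groth.Agent.ConjInt

section Algebra

variable (A : Type u) {A' : Type u} [CommRing A] [CommRing A'] [Algebra A A'] (J' : Ideal A')

/-- `A + J'` -/
def thick : Subalgebra A A' where
  carrier := {z | ∃ a : A, z - algebraMap A A' a ∈ J'}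
  mul_mem' := by
    rintro x y ⟨a, ha⟩ ⟨b, hb⟩
    refine ⟨a * b, ?_⟩
    have e : x * y - algebraMap A A' (a * b) = (x - algebraMap A A' a) * y + algebraMap A A' a * (y - algebraMap A A' b) := by
      rw [map_mul]; ring
    rw [e]
    exact J'.add_mem (J'.mul_mem_right _ ha) (J'.mul_mem_left _ hb)
  add_mem' := by
    rintro x y ⟨a, ha⟩ ⟨b, hb⟩
    refine ⟨a + b, ?_⟩
    have e : x + y - algebraMap A A' (a + b) = (x - algebraMap A A' a) + (y - algebraMap A A' b) := by
      rw [map_add]; ring
    rw [e]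
    exact J'.add_mem ha hb
  algebraMap_mem' := fun a => ⟨a, by simp⟩

theorem mem_thick {z : A'} : z ∈ thick A J' ↔ ∃ a : A, z - algebraMap A A' a ∈ J' := Iff.rfl

variable {A} {J'} {JA : Ideal A}

/-- A linear retraction respecting the square-zero ideals is an algebra map on `A + J'`. -/
def intHom (I : A' →ₗ[A] A) (h1 : I 1 = 1) (hI : ∀ x ∈ J', I x ∈ JA) (hA : JA ^ 2 = ⊥) (hJ' : J' ^ 2 = ⊥) :
    thick A J' →ₐ[A] A :=
  AlgHom.ofLinearMap (I.comp (thick A J').val.toLinearMap) (by simpa using h1) (by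
    rintro ⟨x, a, ha⟩ ⟨y, b, hb⟩
    show I (x * y) = I x * I y
    have hxy : (x - algebraMap A A' a) * (y - algebraMap A A' b) = 0 := by
      have := Ideal.mul_mem_mul ha hb
      rwa [← pow_two, hJ', Ideal.mem_bot] at this
    have hI2 : I (x - algebraMap A A' a) * I (y - algebraMap A A' b) = 0 := by
      have := Ideal.mul_mem_mul (hI _ ha) (hI _ hb)
      rwa [← pow_two, hA, Ideal.mem_bot] at this
    have halg : ∀ c : A, I (algebraMap A A' c) = c := fun c => by
      rw [Algebra.algebraMap_eq_smul_one, map_smul, h1, smul_eq_mul, mul_one]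
    have e : x * y = algebraMap A A' (a * b) + a • (y - algebraMap A A' b) + b • (x - algebraMap A A' a)
        + (x - algebraMap A A' a) * (y - algebraMap A A' b) := by
      rw [Algebra.smul_def, Algebra.smul_def, map_mul]; ring
    have ex : I x = a + I (x - algebraMap A A' a) := by rw [map_sub, halg]; ring
    have ey : I y = b + I (y - algebraMap A A' b) := by rw [map_sub, halg]; ring
    rw [e, hxy, add_zero, map_add, map_add, halg, map_smul, map_smul, smul_eq_mul, smul_eq_mul, ex, ey]
    linear_combination -hI2)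

theorem intHom_apply (I : A' →ₗ[A] A) (h1 : I 1 = 1) (hI : ∀ x ∈ J', I x ∈ JA) (hA : JA ^ 2 = ⊥) (hJ' : J' ^ 2 = ⊥)
    (z : thick A J') : intHom I h1 hI hA hJ' z = I z := rfl

/-- `A' → A` and `A + J' → A` have the same image of points -/
theorem surjective_comap_thick (ε : A' →ₐ[A] A) (hJ' : J' ^ 2 = ⊥) :
    Function.Surjective (PrimeSpectrum.comap (thick A J').val.toRingHom) := by
  intro p
  let p₀ : PrimeSpectrum A := PrimeSpectrum.comap (algebraMap A (thick A J')) p
  refine ⟨PrimeSpectrum.comap ε.toRingHom p₀, PrimeSpectrum.ext (Ideal.ext ?_)⟩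
  rintro ⟨z, a, ha⟩
  show algebraMap A (thick A J') (ε z) ∈ p.asIdeal ↔ (⟨z, a, ha⟩ : thick A J') ∈ p.asIdeal
  have nilp : ∀ w : thick A J', (w : A') ∈ J' → w ∈ p.asIdeal := fun w hw => by
    refine p.isPrime.mem_of_pow_mem 2 ?_
    have : (w : A') ^ 2 ∈ J' ^ 2 := Ideal.pow_mem_pow hw 2
    rw [hJ', Ideal.mem_bot] at this
    rw [show w ^ 2 = 0 from Subtype.ext this]
    exact zero_mem _
  have h1 : (⟨z, a, ha⟩ : thick A J') - algebraMap A (thick A J') a ∈ p.asIdeal := nilp _ ha
  have h2 : algebraMap A (thick A J') (ε z) - algebraMap A (thick A J') a ∈ p.asIdeal := by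
    refine p.isPrime.mem_of_pow_mem 2 ?_
    have hsq : (z - algebraMap A A' a) ^ 2 = 0 := by
      have := Ideal.pow_mem_pow ha 2
      rwa [hJ', Ideal.mem_bot] at this
    have := congrArg ε hsq
    rw [map_pow, map_sub, ε.commutes, map_zero] at this
    rw [← map_sub, ← map_pow]
    simp only [Algebra.algebraMap_self, RingHom.id_apply] at this
    rw [this, map_zero]
    exact zero_mem _
  constructor <;> intro h
  · have := p.asIdeal.add_mem (p.asIdeal.sub_mem h h2) h1
    simpa using this
  · have := p.asIdeal.add_mem (p.asIdeal.sub_mem h h1) h2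
    simpa using this

end Algebra

/-- A ring injection surjective on spectra gives an epimorphism of schemes. -/
theorem hom_ext_of_injective {C A' : Type u} [CommRing C] [CommRing A'] (i : C →+* A') (hi : Function.Injective i)
    (hs : Function.Surjective (PrimeSpectrum.comap i)) {X : Scheme.{u}} (g h : Spec (CommRingCat.of C) ⟶ X)
    (H : Spec.map (CommRingCat.ofHom i) ≫ g = Spec.map (CommRingCat.ofHom i) ≫ h) : g = h := by
  have hb : ∀ z, g z = h z := fun z => by
    obtain ⟨w, rfl⟩ := hs z
    exact congrArg (fun f => f.base w) H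
  suffices ∀ z : Spec (CommRingCat.of C), ∃ U : (Spec (CommRingCat.of C)).Opens, z ∈ U ∧ U.ι ≫ g = U.ι ≫ h by
    choose U hU hUe using this
    exact ((Spec (CommRingCat.of C)).openCoverOfIsOpenCover U (eq_top_iff.mpr fun z _ =>
      TopologicalSpace.Opens.mem_iSup.mpr ⟨z, hU z⟩)).hom_ext _ _ hUe
  intro z
  obtain ⟨_, ⟨W, hW, rfl⟩, hzW, -⟩ := X.isBasis_affineOpens.exists_subset_of_mem_open
    (Set.mem_univ (g z)) isOpen_univ
  replace hW : IsAffineOpen W := hW
  obtain ⟨_, ⟨_, ⟨c, rfl⟩, rfl⟩, hzc, hcW⟩ := PrimeSpectrum.isBasis_basic_opens.exists_subset_of_mem_open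
    (show z ∈ (g ⁻¹ᵁ W : Set _) from hzW) (g ⁻¹ᵁ W).isOpen
  let o : Spec (CommRingCat.of (Localization.Away c)) ⟶ Spec (CommRingCat.of C) :=
    Spec.map (CommRingCat.ofHom (algebraMap C (Localization.Away c)))
  haveI : IsOpenImmersion o := IsOpenImmersion.of_isLocalization c
  have ho : Set.range o = ((PrimeSpectrum.basicOpen c : TopologicalSpace.Opens (PrimeSpectrum C)) : Set (PrimeSpectrum C)) :=
    PrimeSpectrum.localization_away_comap_range (Localization.Away c) c
  have hrg : Set.range (o ≫ g) ⊆ Set.range hW.fromSpec := by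
    rintro _ ⟨y, rfl⟩
    rw [hW.range_fromSpec]
    exact hcW (ho.le ⟨y, rfl⟩)
  have hrh : Set.range (o ≫ h) ⊆ Set.range hW.fromSpec := by
    rintro _ ⟨y, rfl⟩
    rw [hW.range_fromSpec, Scheme.Hom.comp_apply, ← hb]
    exact hcW (ho.le ⟨y, rfl⟩)
  let φ := Spec.preimage (IsOpenImmersion.lift hW.fromSpec (o ≫ g) hrg)
  let ψ := Spec.preimage (IsOpenImmersion.lift hW.fromSpec (o ≫ h) hrh)
  let k : Localization.Away c →+* Localization.Away (i c) := IsLocalization.Away.map _ _ i c
  have hk : Function.Injective k := by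
    haveI : IsLocalization ((Submonoid.powers c).map i) (Localization.Away (i c)) := by
      rw [Submonoid.map_powers]; infer_instance
    exact IsLocalization.map_injective_of_injective (Submonoid.powers c) (Localization.Away c) (Localization.Away (i c)) hi
  have hcomm : Spec.map (CommRingCat.ofHom k) ≫ o =
      Spec.map (CommRingCat.ofHom (algebraMap A' (Localization.Away (i c)))) ≫ Spec.map (CommRingCat.ofHom i) := by
    simp only [o, ← Spec.map_comp, ← CommRingCat.ofHom_comp]
    congr 2
    exact IsLocalization.map_comp _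
  have hkey : φ ≫ CommRingCat.ofHom k = ψ ≫ CommRingCat.ofHom k := by
    apply Spec.map_injective
    rw [Spec.map_comp, Spec.map_comp, Spec.map_preimage, Spec.map_preimage, ← cancel_mono hW.fromSpec]
    simp only [Category.assoc, IsOpenImmersion.lift_fac]
    rw [reassoc_of% hcomm, reassoc_of% hcomm, H]
  have hφψ : φ = ψ := by
    ext x
    exact hk (congrArg (fun f => f.hom x) hkey)
  have hog : o ≫ g = o ≫ h := by
    rw [← IsOpenImmersion.lift_fac hW.fromSpec (o ≫ g) hrg, ← IsOpenImmersion.lift_fac hW.fromSpec (o ≫ h) hrh,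
      ← Spec.map_preimage (IsOpenImmersion.lift hW.fromSpec (o ≫ g) hrg),
      ← Spec.map_preimage (IsOpenImmersion.lift hW.fromSpec (o ≫ h) hrh)]
    exact congrArg (fun f => Spec.map f ≫ hW.fromSpec) hφψ
  refine ⟨o.opensRange, ho.ge hzc, ?_⟩
  rw [← cancel_epi o.isoOpensRange.hom]
  simpa using hog

end Groth.Agent.ConjInt
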