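import Groth.Agent.ConjInt.LiftSmooth

/-!
Lifting along a nilpotent ideal of a conjugate of a homomorphism into a subgroup.
-/

universe u

open CategoryTheory Limits MonoidalCategory CartesianMonoidalCategory MonObj GrpObj AlgebraicGeometry
open CoactBr Groth.Agent.DiagGrp Groth.Agent.DiagAction

set_option backward.isDefEq.respectTransparency false

noncomputable section

namespace Groth.Agent.ConjInt

variable {R : Type u} [CommRing R] {H K : Over (Spec (CommRingCat.of R))} [GrpObj H] [GrpObj K]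

theorem exists_step_fam {I₁ I₂ : Ideal R} (hI : I₁ ^ 2 ≤ I₂)
    (hH : TwC.Locally (Spec (CommRingCat.of R)) TwC.Topology.fpqc (fun S' f => ∃ (M : Type) (_ : AddCommGroup M), Nonempty (Grp.mk (Red.bc f H) ≅ Grp.mk (Red.DS S' M))))
    (hK : Smooth K.hom) (θ₁ : ModFam I₁ H K) :
    ∃ θ₂ : ModFam I₂ H K, ∀ (B : Type u) [CommRing B] [Algebra R B] (hB : ∀ r ∈ I₁, algebraMap R B r = 0)
      (hB' : ∀ r ∈ I₂, algebraMap R B r = 0) (h : sp R B ⟶ H), θ₂.f B hB' h = θ₁.f B hB h := by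
  let J₂ : Ideal (R ⧸ I₂) := I₁.map (algebraMap R (R ⧸ I₂))
  have hJ₂ : J₂ ^ 2 = ⊥ := by
    rw [← Ideal.map_pow, Ideal.map_eq_bot_iff_le_ker, Ideal.Quotient.algebraMap_eq, Ideal.mk_ker]
    exact hI
  let H₂ := Red.bc (str R (R ⧸ I₂)) H
  let K₂ := Red.bc (str R (R ⧸ I₂)) K
  have hK₂ : MoreMor.IsFormallySmoothHom K₂.hom :=
    ((FSmooth.smooth_iff K₂.hom).mp (MorphismProperty.pullback_snd K.hom (str R (R ⧸ I₂)) hK)).2
  have hkill : ∀ (B : Type u) [CommRing B] [Algebra R B] [Algebra (R ⧸ I₂) B] [IsScalarTower R (R ⧸ I₂) B],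
      (∀ x ∈ J₂, algebraMap (R ⧸ I₂) B x = 0) → ∀ r ∈ I₁, algebraMap R B r = 0 := fun B _ _ _ _ hB r hr => by
    rw [IsScalarTower.algebraMap_apply R (R ⧸ I₂) B]; exact hB _ (Ideal.mem_map_of_mem _ hr)
  let F : ∀ (B : Type u) [CommRing B] [Algebra (R ⧸ I₂) B], (∀ x ∈ J₂, algebraMap (R ⧸ I₂) B x = 0) →
      (sp (R ⧸ I₂) B ⟶ H₂) → (sp (R ⧸ I₂) B ⟶ K₂) := fun B _ _ hB h =>
    letI : Algebra R B := Algebra.compHom B (algebraMap R (R ⧸ I₂))
    haveI : IsScalarTower R (R ⧸ I₂) B := IsScalarTower.of_algebraMap_eq fun _ => rfl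
    up (θ₁.f B (hkill B hB) (down h))
  let θ' : ModFam J₂ H₂ K₂ :=
    { f := F
      nat := fun {B B'} _ _ _ _ hB hB' k h => by
        letI : Algebra R B := Algebra.compHom B (algebraMap R (R ⧸ I₂))
        letI : Algebra R B' := Algebra.compHom B' (algebraMap R (R ⧸ I₂))
        haveI : IsScalarTower R (R ⧸ I₂) B := IsScalarTower.of_algebraMap_eq fun _ => rfl
        haveI : IsScalarTower R (R ⧸ I₂) B' := IsScalarTower.of_algebraMap_eq fun _ => rfl
        simp only [F]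
        rw [comp_up, θ₁.nat (hkill B hB) (hkill B' hB'), DiagGrp.down_comp]
      mul := fun {B} _ _ hB h k => by
        letI : Algebra R B := Algebra.compHom B (algebraMap R (R ⧸ I₂))
        haveI : IsScalarTower R (R ⧸ I₂) B := IsScalarTower.of_algebraMap_eq fun _ => rfl
        simp only [F]
        rw [down_mul, θ₁.mul, up_mul] }
  obtain ⟨w, hw, hw'⟩ := exists_lift_smooth (H := H₂) (K := K₂) hJ₂ (locally_bc (str R (R ⧸ I₂)) (isAffineOpen_top _) H hH)
    hK₂ θ'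
  haveI := hw
  let G : ∀ (B : Type u) [CommRing B] [Algebra R B], (∀ r ∈ I₂, algebraMap R B r = 0) →
      (sp R B ⟶ H) → (sp R B ⟶ K) := fun B _ _ hB h =>
    letI : Algebra (R ⧸ I₂) B := (Ideal.Quotient.lift I₂ (algebraMap R B) hB).toAlgebra
    haveI : IsScalarTower R (R ⧸ I₂) B := IsScalarTower.of_algebraMap_eq fun _ => rfl
    down (up (K := R ⧸ I₂) h ≫ w)
  refine ⟨{ f := G, nat := fun {B B'} _ _ _ _ hB hB' k h => ?_, mul := fun {B} _ _ hB h k => ?_ }, ?_⟩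
  · letI : Algebra (R ⧸ I₂) B := (Ideal.Quotient.lift I₂ (algebraMap R B) hB).toAlgebra
    letI : Algebra (R ⧸ I₂) B' := (Ideal.Quotient.lift I₂ (algebraMap R B') hB').toAlgebra
    haveI : IsScalarTower R (R ⧸ I₂) B := IsScalarTower.of_algebraMap_eq fun _ => rfl
    haveI : IsScalarTower R (R ⧸ I₂) B' := IsScalarTower.of_algebraMap_eq fun _ => rfl
    let k' : B →ₐ[R ⧸ I₂] B' :=
      { k.toRingHom with
        commutes' := fun x => by
          obtain ⟨r, rfl⟩ := Ideal.Quotient.mk_surjective x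
          exact k.commutes r }
    simp only [G]
    rw [show pt k = pt (k'.restrictScalars R) from rfl, ← DiagGrp.down_comp, ← Category.assoc, comp_up]
  · letI : Algebra (R ⧸ I₂) B := (Ideal.Quotient.lift I₂ (algebraMap R B) hB).toAlgebra
    haveI : IsScalarTower R (R ⧸ I₂) B := IsScalarTower.of_algebraMap_eq fun _ => rfl
    simp only [G]
    rw [up_mul, mul_comp', down_mul]
  · have aux : ∀ (B : Type u) [CommRing B] (a : Algebra (R ⧸ I₂) B) (r : Algebra R B) (_ : IsScalarTower R (R ⧸ I₂) B)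
        (hB : ∀ x ∈ I₁, algebraMap R B x = 0) (h : sp R B ⟶ H), down (up (K := R ⧸ I₂) h ≫ w) = θ₁.f B hB h := by
      intro B _ a r t hB h
      have hB₂ : ∀ x ∈ J₂, algebraMap (R ⧸ I₂) B x = 0 := fun x hx => by
        have : J₂ ≤ RingHom.ker (algebraMap (R ⧸ I₂) B) := Ideal.map_le_iff_le_comap.mpr fun y hy => by
          show algebraMap (R ⧸ I₂) B (algebraMap R (R ⧸ I₂) y) = 0
          rw [← IsScalarTower.algebraMap_apply, hB y hy]
        exact this hx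
      obtain rfl : r = Algebra.compHom B (algebraMap R (R ⧸ I₂)) :=
        Algebra.algebra_ext _ _ fun x => IsScalarTower.algebraMap_apply R (R ⧸ I₂) B x
      letI : Algebra R B := Algebra.compHom B (algebraMap R (R ⧸ I₂))
      haveI : IsScalarTower R (R ⧸ I₂) B := t
      rw [hw' B hB₂]
      simp only [θ', F]
      rw [down_up, down_up]
    intro B _ inst hB hB' h
    letI : Algebra (R ⧸ I₂) B := (Ideal.Quotient.lift I₂ (algebraMap R B) hB').toAlgebra
    exact aux B _ inst (IsScalarTower.of_algebraMap_eq fun _ => rfl) hB h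

theorem exists_lift_smooth_nilpotent {J : Ideal R} (hJ : IsNilpotent J)
    (hH : TwC.Locally (Spec (CommRingCat.of R)) TwC.Topology.fpqc (fun S' f => ∃ (M : Type) (_ : AddCommGroup M), Nonempty (Grp.mk (Red.bc f H) ≅ Grp.mk (Red.DS S' M))))
    (hK : Smooth K.hom) (θ : ModFam J H K) :
    ∃ w : H ⟶ K, IsMonHom w ∧ ∀ (B : Type u) [CommRing B] [Algebra R B] (hB : ∀ r ∈ J, algebraMap R B r = 0)
      (h : sp R B ⟶ H), h ≫ w = θ.f B hB h := by
  have key : ∀ n, ∃ θn : ModFam (J ^ (n + 1)) H K, ∀ (B : Type u) [CommRing B] [Algebra R B]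
      (hB : ∀ r ∈ J, algebraMap R B r = 0) (hB' : ∀ r ∈ J ^ (n + 1), algebraMap R B r = 0) (h : sp R B ⟶ H),
      θn.f B hB' h = θ.f B hB h := by
    intro n
    induction n with
    | zero =>
      have h1 : J ≤ J ^ (0 + 1) := by rw [zero_add, pow_one]
      exact ⟨⟨fun B _ _ hB h => θ.f B (fun r hr => hB r (h1 hr)) h, fun _ _ k h => θ.nat _ _ k h,
        fun _ h k => θ.mul _ h k⟩, fun B _ _ _ _ _ => rfl⟩
    | succ n ih =>
      obtain ⟨θn, hn⟩ := ih
      obtain ⟨θ', hθ'⟩ := exists_step_fam (I₁ := J ^ (n + 1)) (I₂ := J ^ (n + 1 + 1))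
        (by rw [← pow_mul]; exact Ideal.pow_le_pow_right (by omega)) hH hK θn
      exact ⟨θ', fun B _ _ hB hB' h => (hθ' B (fun r hr => hB r (Ideal.pow_le_self (Nat.succ_ne_zero n) hr)) hB' h).trans
        (hn B hB _ h)⟩
  obtain ⟨N, hN⟩ := hJ
  obtain ⟨θN, hθN⟩ := key N
  have hbot : J ^ (N + 1) = ⊥ := by rw [pow_succ, hN, zero_mul]; rfl
  obtain ⟨w, hw, hw'⟩ := exists_lift_smooth (J := J ^ (N + 1)) (by rw [hbot]; simp [pow_two]) hH
    ((FSmooth.smooth_iff K.hom).mp hK).2 θN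
  exact ⟨w, hw, fun B _ _ hB h => (hw' B (fun r hr => hB r (Ideal.pow_le_self (Nat.succ_ne_zero N) hr)) h).trans (hθN B hB _ h)⟩

theorem transporter_lifts {G : Over (Spec (CommRingCat.of R))} [GrpObj G] {J : Ideal R} (hJ : IsNilpotent J)
    (hG : Smooth G.hom) (k : K ⟶ G) [IsMonHom k] [IsImmersion k.left]
    (hK : Smooth K.hom ∨ TwC.Locally (Spec (CommRingCat.of R)) TwC.Topology.fpqc (fun S' f => ∃ (M : Type) (_ : AddCommGroup M), Nonempty (Grp.mk (Red.bc f K) ≅ Grp.mk (Red.DS S' M))))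
    (hH : TwC.Locally (Spec (CommRingCat.of R)) TwC.Topology.fpqc (fun S' f => ∃ (M : Type) (_ : AddCommGroup M), Nonempty (Grp.mk (Red.bc f H) ≅ Grp.mk (Red.DS S' M))))
    (u : H ⟶ G) [IsMonHom u] (g₀ : modJ J ⟶ G)
    (h0 : ∀ (X : Over (Spec (CommRingCat.of R))) (p : X ⟶ modJ J) (h : X ⟶ H),
      ∃ x : X ⟶ K, (p ≫ g₀) * (h ≫ u) * (p ≫ g₀)⁻¹ = x ≫ k) :
    ∃ g : 𝟙_ (Over (Spec (CommRingCat.of R))) ⟶ G, toUnit (modJ J) ≫ g = g₀ ∧
      ∀ (X : Over (Spec (CommRingCat.of R))) (h : X ⟶ H), ∃ x : X ⟶ K,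
        (toUnit X ≫ g) * (h ≫ u) * (toUnit X ≫ g)⁻¹ = x ≫ k := by
  haveI : Mono k := Over.mono_of_mono_left k
  obtain ⟨θ, hθ⟩ := exists_modFam u k g₀ h0
  obtain ⟨w, hw, hw'⟩ : ∃ w : H ⟶ K, IsMonHom w ∧ ∀ (B : Type u) [CommRing B] [Algebra R B]
      (hB : ∀ r ∈ J, algebraMap R B r = 0) (h : sp R B ⟶ H), h ≫ w = θ.f B hB h := by
    rcases hK with hKs | hKm
    · exact exists_lift_smooth_nilpotent hJ hH hKs θ
    · exact (existsUnique_lift_hom hJ θ hH hKm).exists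
  haveI := hw
  obtain ⟨g, hg, hgc⟩ := exists_conj_nilpotent J hJ hH ((FSmooth.smooth_iff G.hom).mp hG).2 u (w ≫ k) g₀
    fun X p h => affine_point_ext _ _ fun D _ _ z => by
      have hB := killed_of_toModJ (z ≫ p)
      rw [MonObj.comp_mul, MonObj.comp_mul, GrpObj.comp_inv, ← Category.assoc z, ← Category.assoc z,
        ← Category.assoc z, hom_modJ_ext (z ≫ p) (toModJ hB)]
      show (z ≫ h) ≫ w ≫ k = _
      rw [← Category.assoc (z ≫ h), hw' D hB, hθ]
  exact ⟨g, hg, fun X h => ⟨h ≫ w, by rw [← hgc X h, Category.assoc]⟩⟩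

end Groth.Agent.ConjInt
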